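import Cfsg.Agent.Lib.Chev.G2Seven.Moves
import Cfsg.Agent.Lib.Chev.InvG2
import Cfsg.Agent.Lib.Chev.BorelTits
import Cfsg.Agent.Lib.Spec.EigenOrder

/-!
Every element is conjugate into the Borel subgroup over a field containing its eigenvalues.
-/

set_option autoImplicit false
set_option maxRecDepth 100000

namespace Cfsg.Lib.Chev.G2Seven

open Cfsg.Lie Cfsg.Lib.Chev
open scoped Matrix
open Polynomial (Splits)


section One

variable {F : Type*} [Field F] [Finite F]

/-- The representation is faithful. -/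
theorem eq_one_of_mat {g : GL chevG2.Idx F} (hg : g ∈ chevG2.group F) (h : mat g = 1) : g = 1 := by
  have hcore : (⟨g, hg⟩ : ↥(chevG2.group F)) ∈
      ((chevG2.borelSubgroup F).subgroupOf (chevG2.group F)).normalCore := fun y => by
    rw [Subgroup.mem_subgroupOf, Subgroup.coe_mul, Subgroup.coe_mul, Subgroup.coe_inv]
    have e : mat ((y : GL chevG2.Idx F) * g * (y : GL chevG2.Idx F)⁻¹) = 1 := by
      rw [mat_mul (mul_mem y.2 hg) (inv_mem y.2), mat_mul y.2 hg, h, mul_one, ← mat_mul y.2 (inv_mem y.2),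
        mul_inv_cancel, mat_one]
    refine mem_borel_of_flag (mul_mem (mul_mem y.2 hg) (inv_mem y.2)) (fun k hk => ?_) (fun k hk => ?_) <;>
      rw [e, Matrix.one_apply_ne]
    · exact hk
    · exact hk.ne'
  rw [borel_core_eq_bot certG2 fullCertG2, Subgroup.mem_bot] at hcore
  exact congrArg Subtype.val hcore

theorem mat_conj_mulVec {g y : GL chevG2.Idx F} (hg : g ∈ chevG2.group F) (hy : y ∈ chevG2.group F) (v : Fin 7 → F) :
    mat (y * g * y⁻¹) *ᵥ (mat y *ᵥ v) = mat y *ᵥ (mat g *ᵥ v) := by
  rw [Matrix.mulVec_mulVec, Matrix.mulVec_mulVec, ← mat_mul (mul_mem (mul_mem hy hg) (inv_mem hy)) hy,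
    inv_mul_cancel_right, mat_mul hy hg]

theorem charpoly_conj {g y : GL chevG2.Idx F} (hg : g ∈ chevG2.group F) (hy : y ∈ chevG2.group F) :
    (mat (y * g * y⁻¹)).charpoly = (mat g).charpoly := by
  rw [mat_mul (mul_mem hy hg) (inv_mem hy), mat_mul hy hg]
  have h1 : mat y * mat y⁻¹ = 1 := by rw [← mat_mul hy (inv_mem hy), mul_inv_cancel, mat_one]
  rw [mul_assoc, Matrix.charpoly_mul_comm, mul_assoc, mul_eq_one_comm.1 h1, mul_one]

/-- The last step: an element fixing a line. -/
theorem conj_borel_of_line {g : GL chevG2.Idx F} (hg : g ∈ chevG2.group F)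
    (hs : (mat g).charpoly.Splits) (h0 : ∀ k : Fin 7, k ≠ 0 → mat g k 0 = 0) :
    ∃ y ∈ chevG2.group F, y * g * y⁻¹ ∈ chevG2.borelSubgroup F := by
  set M := mat g with hM
  have h3 : ∀ k j : Fin 7, 2 < k → j ≤ 2 → M k j = 0 := three_of_line hg h0
  -- an eigenvector on the quotient of the third step by the first
  obtain ⟨lam, hlam⟩ : ∃ lam : F, (M 1 1 - lam) * (M 2 2 - lam) - M 1 2 * M 2 1 = 0 := by
    let f := algebraMap F (AlgebraicClosure F)
    obtain ⟨r, hr⟩ : ∃ r : AlgebraicClosure F, r * r - f (M 1 1 + M 2 2) * r + f (M 1 1 * M 2 2 - M 1 2 * M 2 1) = 0 := by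
      open Polynomial in
      obtain ⟨r, h⟩ := IsAlgClosed.exists_root (C 1 * X ^ 2 + C (-f (M 1 1 + M 2 2)) * X +
        C (f (M 1 1 * M 2 2 - M 1 2 * M 2 1))) (by rw [degree_quadratic one_ne_zero]; norm_num)
      refine ⟨r, ?_⟩
      simp only [IsRoot, eval_add, eval_mul, eval_C, eval_pow, eval_X] at h
      linear_combination h
    have hmem : r ∈ f.range := by
      by_cases h00 : r = f (M 0 0)
      · exact ⟨_, h00.symm⟩
      refine hs.mem_range_of_isRoot (Matrix.charpoly_monic M).ne_zero ?_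
      -- an eigenvector
      have hd : (f (M 1 1) - r) * (f (M 2 2) - r) - f (M 1 2) * f (M 2 1) = 0 := by
        simp only [map_add, map_sub, map_mul] at hr; linear_combination hr
      obtain ⟨a, b, hab, e1, e2⟩ : ∃ a b : AlgebraicClosure F, (a ≠ 0 ∨ b ≠ 0) ∧
          (f (M 1 1) - r) * a + f (M 1 2) * b = 0 ∧ f (M 2 1) * a + (f (M 2 2) - r) * b = 0 := by
        by_cases hz : f (M 1 1) - r = 0 ∧ f (M 1 2) = 0
        · by_cases hz2 : f (M 2 2) - r = 0
          · exact ⟨0, 1, Or.inr one_ne_zero, by rw [hz.1, hz.2]; ring, by rw [hz2]; ring⟩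
          · exact ⟨f (M 2 2) - r, -f (M 2 1), Or.inl hz2, by rw [hz.1, hz.2]; ring, by ring⟩
        · refine ⟨f (M 1 2), -(f (M 1 1) - r), ?_, by ring, by linear_combination -hd⟩
          by_contra hc
          push Not at hc
          exact hz ⟨neg_eq_zero.1 hc.2, hc.1⟩
      set c := (f (M 0 1) * a + f (M 0 2) * b) / (r - f (M 0 0)) with hc
      let w : Fin 7 → AlgebraicClosure F := ![c, a, b, 0, 0, 0, 0]
      have hw : w ≠ 0 := fun h => by
        rcases hab with ha | hb
        · exact ha (congrFun h 1)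
        · exact hb (congrFun h 2)
      have hev : M.map f *ᵥ w = r • w := by
        have hc' : c * (r - f (M 0 0)) = f (M 0 1) * a + f (M 0 2) * b :=
          div_mul_cancel₀ _ (sub_ne_zero.2 h00)
        ext k
        fin_cases k <;> simp [w, Matrix.mulVec, dotProduct, Fin.sum_univ_seven, h0, h3, Fin.ext_iff]
        · linear_combination -hc'
        · linear_combination e1
        · linear_combination e2
      rw [← Matrix.charpoly_map, Polynomial.IsRoot, Matrix.eval_charpoly, ← Matrix.exists_mulVec_eq_zero_iff]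
      exact ⟨w, hw, by rw [Matrix.sub_mulVec, hev, Matrix.scalar_apply, ← Matrix.smul_one_eq_diagonal,
        Matrix.smul_mulVec, Matrix.one_mulVec, sub_self]⟩
    obtain ⟨lam, rfl⟩ := hmem
    refine ⟨lam, f.injective ?_⟩
    simp only [map_add, map_sub, map_mul, map_zero] at hr ⊢
    linear_combination hr
  obtain ⟨a, b, hab, e1, e2⟩ : ∃ a b : F, (a ≠ 0 ∨ b ≠ 0) ∧
      M 1 1 * a + M 1 2 * b = lam * a ∧ M 2 1 * a + M 2 2 * b = lam * b := by
    by_cases hz : M 1 1 - lam = 0 ∧ M 1 2 = 0
    · by_cases hz2 : M 2 2 - lam = 0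
      · exact ⟨0, 1, Or.inr one_ne_zero, by rw [hz.2]; ring, by linear_combination hz2⟩
      · exact ⟨M 2 2 - lam, -M 2 1, Or.inl hz2, by rw [hz.2]; linear_combination (M 2 2 - lam) * hz.1, by ring⟩
    · refine ⟨M 1 2, -(M 1 1 - lam), ?_, by ring, by linear_combination -hlam⟩
      by_contra hc
      push Not at hc
      exact hz ⟨neg_eq_zero.1 hc.2, hc.1⟩
  set v : Fin 7 → F := ![0, a, b, 0, 0, 0, 0] with hv
  -- the conjugating element
  obtain ⟨y, hy, hy0, hyv⟩ : ∃ y ∈ chevG2.group F, (∀ k : Fin 7, k ≠ 0 → mat y k 0 = 0) ∧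
      ∃ c : F, c ≠ 0 ∧ mat y *ᵥ v = c • Pi.single (1 : Fin 7) (1 : F) := by
    by_cases hb : b = 0
    · refine ⟨1, one_mem _, fun k hk => by rw [mat_one, Matrix.one_apply_ne hk], a, hab.resolve_right (by simp [hb]), ?_⟩
      rw [mat_one, Matrix.one_mulVec, hv, hb]
      ext k; fin_cases k <;> simp [Pi.single_apply, Fin.ext_iff]
    · have hw : IsWord chevG2 [1] := fun i hi => by rw [List.mem_singleton.1 hi]; decide
      have hy₁ := wnu_mem_group certG2 (F := F) hw
      have hy₂ := xg_mem_group certG2 (F := F) 6 (-a / b)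
      have h1 : piW [1] 0 = 0 ∧ piW [1] 2 = 1 := by decide
      refine ⟨wnu certG2 F [1] * xg certG2 6 (-a / b), mul_mem hy₁ hy₂, fun k hk => ?_, (sgnP [1] 2 : F) * b,
        mul_ne_zero (mat_wnu (F := F) hw 2).2 hb, ?_⟩
      · have e : (mat (xg certG2 6 (-a / b))) *ᵥ Pi.single 0 1 = Pi.single (0 : Fin 7) (1 : F) := by
          rw [mat_xg (by decide), mulVec_eq]; simp [rootTerms]
        have : mat (wnu certG2 F [1] * xg certG2 6 (-a / b)) *ᵥ Pi.single 0 1 = (sgnP [1] 0 : F) • Pi.single 0 1 := by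
          rw [mat_mul hy₁ hy₂, ← Matrix.mulVec_mulVec, e, (mat_wnu hw 0).1, h1.1]
        have := congrFun this k
        simpa [hk] using this
      · rw [mat_mul hy₁ hy₂, ← Matrix.mulVec_mulVec]
        have e : mat (xg certG2 6 (-a / b)) *ᵥ v = b • Pi.single (2 : Fin 7) (1 : F) := by
          rw [mat_xg (by decide), mulVec_eq, hv]
          ext k; fin_cases k <;> simp [rootTerms, Pi.single_apply, Fin.ext_iff, hb]
        rw [e, Matrix.mulVec_smul, (mat_wnu hw 2).1, h1.2, smul_smul, mul_comm]
  obtain ⟨c, hc, hyv⟩ := hyv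
  refine ⟨y, hy, mem_borel_of_flag (mul_mem (mul_mem hy hg) (inv_mem hy)) ?_ ?_⟩
  · intro k hk
    have hy00 : mat y *ᵥ Pi.single 0 1 = mat y 0 0 • Pi.single (0 : Fin 7) (1 : F) := by
      ext i
      rcases eq_or_ne i 0 with rfl | hi
      · simp
      · simp [hy0 i hi, hi]
    have hd : mat y 0 0 ≠ 0 := fun e => by
      have h := Matrix.mulVec_injective_iff_isUnit.2 (mat_isUnit hy) (a₁ := Pi.single (0 : Fin 7) (1 : F)) (a₂ := 0)
        (by rw [hy00, e, zero_smul, Matrix.mulVec_zero])
      exact one_ne_zero (α := F) (by simpa using congrFun h 0)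
    have hg0 : mat g *ᵥ Pi.single 0 1 = M 0 0 • Pi.single (0 : Fin 7) (1 : F) := by
      ext i
      rcases eq_or_ne i 0 with rfl | hi
      · simp [hM]
      · have := h0 i hi
        simp [hM] at this ⊢
        simp [this, hi]
    have e := mat_conj_mulVec hg hy (Pi.single 0 1)
    rw [hy00, hg0, Matrix.mulVec_smul, Matrix.mulVec_smul, hy00, smul_smul] at e
    have e2 := congrFun e k
    simp [hk, hd] at e2
    exact e2
  · intro k hk
    have hgv : mat g *ᵥ v = lam • v + (M 0 1 * a + M 0 2 * b) • Pi.single 0 1 := by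
      ext i
      fin_cases i <;> simp [hv, hM.symm, Matrix.mulVec, dotProduct, Fin.sum_univ_seven, h3, Pi.single_apply, Fin.ext_iff]
      · linear_combination e1
      · linear_combination e2
    have e := mat_conj_mulVec hg hy v
    rw [hyv, hgv, Matrix.mulVec_add, Matrix.mulVec_smul, Matrix.mulVec_smul, Matrix.mulVec_smul, hyv] at e
    have hk0 : k ≠ 0 := (lt_trans (by decide) hk).ne'
    have hk1 : k ≠ 1 := hk.ne'
    have e2 := congrFun e k
    simp [hk1, hy0 k hk0, hc] at e2
    exact e2

/-- An element with a singular eigenvector. -/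
theorem conj_borel_of_eigen {g : GL chevG2.Idx F} (hg : g ∈ chevG2.group F) (hs : (mat g).charpoly.Splits)
    {v : Fin 7 → F} (hv : v ≠ 0) (hQ : Q7 v = 0) {r : F} (he : mat g *ᵥ v = r • v) :
    ∃ y ∈ chevG2.group F, y * g * y⁻¹ ∈ chevG2.borelSubgroup F := by
  obtain ⟨z, hz, hzv⟩ := exists_move hv hQ
  have hg' := mul_mem (mul_mem hz hg) (inv_mem hz)
  set u := mat z *ᵥ v with hu
  have hu0 : u = u 0 • Pi.single (0 : Fin 7) (1 : F) := by
    ext i
    rcases eq_or_ne i 0 with rfl | hi
    · simp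
    · simp [hzv i hi, hi]
  have hne : u 0 ≠ 0 := fun e => hv (Matrix.mulVec_injective_iff_isUnit.2 (mat_isUnit hz)
    (a₂ := 0) (by rw [← hu, hu0, e, zero_smul, Matrix.mulVec_zero]))
  have e := mat_conj_mulVec hg hz v
  rw [he, Matrix.mulVec_smul, ← hu, hu0, Matrix.mulVec_smul] at e
  obtain ⟨y, hy, hyB⟩ := conj_borel_of_line hg' (by rw [charpoly_conj hg hz]; exact hs) fun k hk => by
    have := congrFun e k
    simp [hk, hne] at this
    exact this
  exact ⟨y * z, mul_mem hy hz, by simpa [mul_assoc] using hyB⟩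

/-- Elements of order prime to the characteristic whose eigenvalues all have the same power one. -/
theorem pow_eq_one_of_eig {g : GL chevG2.Idx F} (hg : g ∈ chevG2.group F) {n k : ℕ} (hn : (n : F) ≠ 0)
    (h : mat g ^ (k * n) = 1) (he : ∀ r ∈ Spec.EigenOrder.eig (mat g), r ^ k = 1) : mat g ^ k = 1 := by
  induction n using Nat.strong_induction_on with
  | _ n ih =>
    rcases eq_or_ne n 1 with rfl | h1
    · simpa using h
    obtain ⟨l, hl, m, rfl⟩ := Nat.exists_prime_and_dvd h1
    have hlm : (l : F) ≠ 0 ∧ (m : F) ≠ 0 := by simpa using hn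
    have hm0 : 0 < m := Nat.pos_of_ne_zero fun e => hlm.2 (by rw [e, Nat.cast_zero])
    refine ih m (lt_mul_of_one_lt_left hm0 hl.one_lt) hlm.2 ?_
    by_contra hne
    obtain ⟨r, hr, hrk⟩ := Spec.EigenOrder.exists_eig hlm.1 (by rw [← pow_mul, mul_assoc, mul_comm m l]; exact h) hne
    exact hrk (by rw [pow_mul, he r hr, one_pow])

end One

section Two

universe v

variable {F : Type v} [Field F] [Fintype F] {L : Type v} [Field L] [Finite L] (f : F →+* L)

local notation "mg" => Matrix.GeneralLinearGroup.map (n := chevG2.Idx) f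

theorem mat_map {g : GL chevG2.Idx F} (hg : g ∈ chevG2.group F) :
    mat (mg g) = (mat g).map f := by
  suffices h : g ∈ chevG2.group F ∧ mat (mg g) = (mat g).map f from h.2
  have hg' := hg
  rw [ChevalleyDatum.group, ← Subgroup.mem_toSubmonoid, Subgroup.closure_toSubmonoid] at hg'
  refine Submonoid.closure_induction (motive := fun x _ => x ∈ chevG2.group F ∧ mat (mg x) = (mat x).map f)
    ?_ ?_ ?_ hg'
  · intro x hx
    obtain ⟨r, hr, t, rfl⟩ : ∃ r, r < 12 ∧ ∃ t, x = xg certG2 r t := by
      rcases hx with ⟨r, t, e⟩ | hx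
      · exact ⟨r, r.2, t, eq_xg certG2 (e.trans (by rw [ChevalleyDatum.x, dif_pos r.2]))⟩
      · obtain ⟨r, t, e⟩ := Set.mem_inv.1 hx
        refine ⟨r, r.2, -t, ?_⟩
        rw [← inv_inv x, eq_xg certG2 (r := (r : ℕ)) (t := t) (e.trans (by rw [ChevalleyDatum.x, dif_pos r.2])),
          xg_inv]
    refine ⟨xg_mem_group certG2 _ _, ?_⟩
    rw [map_xg, mat_xg hr, mat_xg hr, x7M, x7M, evalP, evalP,
      show ∀ l : List (Matrix (Fin 7) (Fin 7) F), l.sum.map f = (l.map fun A => A.map f).sum from
        fun l => map_list_sum f.mapMatrix l, List.map_map]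
    refine congrArg List.sum (List.map_congr_left fun p _ => ?_)
    ext i j
    simp [evalMon, Matrix.single_apply, apply_ite f]
  · exact ⟨one_mem _, by rw [map_one, mat_one, mat_one]; exact (map_one f.mapMatrix).symm⟩
  · exact fun x y _ _ hx hy => ⟨mul_mem hx.1 hy.1, by
      rw [map_mul, mat_mul (map_group_le certG2 f hx.1) (map_group_le certG2 f hy.1), hx.2, hy.2, mat_mul hx.1 hy.1,
        Matrix.map_mul]⟩

/-- A matrix preserving the first line or the first plane. -/
def Stab (k : ℕ) (M : Matrix (Fin 7) (Fin 7) F) : Prop := ∀ i j : Fin 7, k ≤ (i : ℕ) → (j : ℕ) < k → M i j = 0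

theorem stab_parabolic {k j₀ : ℕ} (hk : (k = 1 ∧ j₀ = 1) ∨ (k = 2 ∧ j₀ = 0)) {J : Set ℕ}
    (hJ : ∀ j ∈ J, j < 2 → j = j₀) {g : GL chevG2.Idx F} (hg : g ∈ chevG2.parabolicSubgroup F J) :
    g ∈ chevG2.group F ∧ Stab k (mat g) := by
  have hmul : ∀ {A B : Matrix (Fin 7) (Fin 7) F}, Stab k A → Stab k B → Stab k (A * B) := fun hA hB i j hi hj => by
    rw [Matrix.mul_apply]
    refine Finset.sum_eq_zero fun l _ => ?_
    rcases lt_or_ge (l : ℕ) k with h | h
    · rw [hA i l hi h, zero_mul]
    · rw [hB l j h hj, mul_zero]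
  rw [ChevalleyDatum.parabolicSubgroup, ← Subgroup.closure_eq (chevG2.borelSubgroup F), ← Subgroup.closure_union,
    ← Subgroup.mem_toSubmonoid, Subgroup.closure_toSubmonoid] at hg
  refine Submonoid.closure_induction (motive := fun x _ => x ∈ chevG2.group F ∧ Stab k (mat x)) ?_ ?_ ?_ hg
  · intro x hx
    have hkey : ∀ b ∈ chevG2.borelSubgroup F, b ∈ chevG2.group F ∧ Stab k (mat b) := fun b hb =>
      ⟨borel_le_group certG2 hb, fun i j hi hj => upper_of_borel hb i j (Fin.lt_def.2 (lt_of_lt_of_le hj hi))⟩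
    have hnu : ∀ j ∈ J, j < 2 → (nu certG2 j : GL chevG2.Idx F) ∈ chevG2.group F ∧
        Stab k (mat (nu certG2 j : GL chevG2.Idx F)) := fun j hj hj2 => by
      obtain rfl := hJ j hj hj2
      refine ⟨ng_mem_group certG2 _ _, fun i l hi hl => ?_⟩
      have e := congrFun (mat_nu (F := F) (i := j) hj2 l) i
      have hchk : (piN j l : ℕ) < k := by
        have h1 : ∀ l : Fin 7, (l : ℕ) < 1 → (piN 1 l : ℕ) < 1 := by decide
        have h2 : ∀ l : Fin 7, (l : ℕ) < 2 → (piN 0 l : ℕ) < 2 := by decide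
        rcases hk with ⟨rfl, rfl⟩ | ⟨rfl, rfl⟩
        · exact h1 l hl
        · exact h2 l hl
      have hne : i ≠ piN j l := fun h => by rw [h] at hi; omega
      simpa [hne] using e
    rcases hx with hx | hx
    · rcases hx with hx | ⟨j, hj, hj2, e⟩
      · exact hkey x hx
      · have hx' : x = nu certG2 j := Units.ext (e.trans (by rw [nu, coe_ng, certG2.spec.shape.simple_eq j hj2]))
        subst hx'
        exact hnu j hj hj2
    · rw [Set.mem_inv] at hx
      rcases hx with hx | ⟨j, hj, hj2, e⟩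
      · exact hkey x (by simpa using inv_mem hx)
      · have hx' : x = (nu certG2 j : GL chevG2.Idx F)⁻¹ := by
          rw [← inv_inv x]; congr 1
          exact Units.ext (e.trans (by rw [nu, coe_ng, certG2.spec.shape.simple_eq j hj2]))
        subst hx'
        obtain ⟨hn, hns⟩ := hnu j hj hj2
        have hsq : (nu certG2 j : GL chevG2.Idx F) * nu certG2 j ∈ chevG2.borelSubgroup F := by
          rw [nu_sq certG2 hj2]
          exact Subgroup.mem_sup_right (hg_mem certG2 (certG2.spec.simp_lt j hj2) (neg_ne_zero.2 one_ne_zero))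
        obtain ⟨h1, h2⟩ := hkey _ (inv_mem hsq)
        rw [show (nu certG2 j : GL chevG2.Idx F)⁻¹ = ((nu certG2 j : GL chevG2.Idx F) * nu certG2 j)⁻¹ * nu certG2 j by
          group]
        exact ⟨mul_mem h1 hn, by rw [mat_mul h1 hn]; exact hmul h2 hns⟩
  · exact ⟨one_mem _, fun i j hi hj => by
      rw [mat_one, Matrix.one_apply_ne (fun h => by rw [h] at hi; omega)]⟩
  · exact fun x y _ _ hx hy => ⟨mul_mem hx.1 hy.1, by rw [mat_mul hx.1 hy.1]; exact hmul hx.2 hy.2⟩

/-- Every element is conjugate into the Borel subgroup over a field containing its eigenvalues. -/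
theorem exists_conj_borel (p : ℕ) [Fact p.Prime] [CharP F p] {g : GL chevG2.Idx F} (hg : g ∈ chevG2.group F)
    (hs : ((mat g).charpoly.map f).Splits) :
    ∃ y ∈ chevG2.group L, y * mg g * y⁻¹ ∈ chevG2.borelSubgroup L := by
  have hgL := map_group_le certG2 f hg
  have hsL : (mat (mg g)).charpoly.Splits := by
    rw [mat_map f hg, Matrix.charpoly_map]; exact hs
  by_cases hp : p ∣ orderOf g
  · -- in a parabolic subgroup
    set o := orderOf g with ho
    have hu : orderOf (g ^ (o / p)) = p := by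
      haveI : Finite (GL chevG2.Idx F) := inferInstance
      exact orderOf_pow_orderOf_div (orderOf_pos g).ne' hp
    obtain ⟨h, hh, J, ⟨i₀, hi₀, hiJ⟩, hN, -⟩ := borel_tits certG2 fullCertG2 p (Subgroup.zpowers (g ^ (o / p)))
      (Subgroup.zpowers_le.2 (pow_mem hg _))
      (IsPGroup.of_card (n := 1) (by rw [Nat.card_zpowers, hu, pow_one]))
      (fun e => (Fact.out : p.Prime).ne_one (by rw [← hu, orderOf_eq_one_iff]; simpa using e))
    obtain ⟨z, hz, hze⟩ := hN (Subgroup.mem_inf.2 ⟨Subgroup.mem_normalizer_iff.2 fun x => by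
      have hc : ∀ y ∈ Subgroup.zpowers (g ^ (o / p)), g * y * g⁻¹ = y := by
        rintro y ⟨k, rfl⟩
        exact (((Commute.refl g).pow_right (o / p)).zpow_right k).mul_inv_cancel
      refine ⟨fun hx => by rwa [hc x hx], fun hx => ?_⟩
      have := hc _ hx
      rw [mul_left_cancel (mul_right_cancel this)] at hx
      exact hx, hg⟩)
    have hgz : g = h * z * h⁻¹ := hze.symm
    have hcases : (∀ j ∈ J, j < 2 → j = 1) ∨ (∀ j ∈ J, j < 2 → j = 0) := by
      have hi₀' : i₀ < 2 := hi₀
      interval_cases i₀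
      · exact Or.inl fun j hj hj2 => by interval_cases j <;> first | rfl | exact absurd hj hiJ
      · exact Or.inr fun j hj hj2 => by interval_cases j <;> first | rfl | exact absurd hj hiJ
    -- it suffices to treat the conjugate
    suffices hz' : z ∈ chevG2.group F ∧ ∃ y ∈ chevG2.group L, y * mg z * y⁻¹ ∈ chevG2.borelSubgroup L by
      obtain ⟨y, hy, hyz⟩ := hz'.2
      refine ⟨y * (mg h)⁻¹, mul_mem hy (inv_mem (map_group_le certG2 f hh)), ?_⟩
      rw [hgz, map_mul, map_mul, map_inv]
      simpa [mul_assoc] using hyz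
    have hzG : z ∈ chevG2.group F := by
      have : z = h⁻¹ * g * h := by rw [hgz]; group
      rw [this]; exact mul_mem (mul_mem (inv_mem hh) hg) hh
    refine ⟨hzG, ?_⟩
    have hzL := map_group_le certG2 f hzG
    have hszL : (mat (mg z)).charpoly.Splits := by
      rw [← charpoly_conj hzL (map_group_le certG2 f hh), ← map_inv, ← map_mul, ← map_mul, ← hgz]
      exact hsL
    rcases hcases with hJ | hJ
    · refine conj_borel_of_line hzL hszL fun k hk => ?_
      rw [mat_map f hzG, Matrix.map_apply,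
        (stab_parabolic (Or.inl ⟨rfl, rfl⟩) hJ hz).2 k 0 (Nat.one_le_iff_ne_zero.2 (Fin.val_ne_iff.2 hk)) (by decide),
        map_zero]
    · set M := mat (mg z) with hM
      have hst : ∀ i j : Fin 7, 2 ≤ (i : ℕ) → (j : ℕ) < 2 → M i j = 0 := fun i j hi hj => by
        rw [hM, mat_map f hzG, Matrix.map_apply, (stab_parabolic (Or.inr ⟨rfl, rfl⟩) hJ hz).2 i j hi hj, map_zero]
      let i := algebraMap L (AlgebraicClosure L)
      obtain ⟨r, hr⟩ : ∃ r : AlgebraicClosure L,
          r * r - i (M 0 0 + M 1 1) * r + i (M 0 0 * M 1 1 - M 0 1 * M 1 0) = 0 := by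
        open Polynomial in
        obtain ⟨r, h⟩ := IsAlgClosed.exists_root (C 1 * X ^ 2 + C (-i (M 0 0 + M 1 1)) * X +
          C (i (M 0 0 * M 1 1 - M 0 1 * M 1 0))) (by rw [degree_quadratic one_ne_zero]; norm_num)
        refine ⟨r, ?_⟩
        simp only [IsRoot, eval_add, eval_mul, eval_C, eval_pow, eval_X] at h
        linear_combination h
      have hd : (i (M 0 0) - r) * (i (M 1 1) - r) - i (M 0 1) * i (M 1 0) = 0 := by
        simp only [map_add, map_sub, map_mul] at hr; linear_combination hr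
      have hrange : r ∈ i.range := by
        refine hszL.mem_range_of_isRoot (Matrix.charpoly_monic M).ne_zero ?_
        obtain ⟨a, b, hab, e1, e2⟩ : ∃ a b : AlgebraicClosure L, (a ≠ 0 ∨ b ≠ 0) ∧
            (i (M 0 0) - r) * a + i (M 0 1) * b = 0 ∧ i (M 1 0) * a + (i (M 1 1) - r) * b = 0 := by
          by_cases hz : i (M 0 0) - r = 0 ∧ i (M 0 1) = 0
          · by_cases hz2 : i (M 1 1) - r = 0
            · exact ⟨0, 1, Or.inr one_ne_zero, by rw [hz.1, hz.2]; ring, by rw [hz2]; ring⟩
            · exact ⟨i (M 1 1) - r, -i (M 1 0), Or.inl hz2, by rw [hz.1, hz.2]; ring, by ring⟩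
          · refine ⟨i (M 0 1), -(i (M 0 0) - r), ?_, by ring, by linear_combination -hd⟩
            by_contra hc
            push Not at hc
            exact hz ⟨neg_eq_zero.1 hc.2, hc.1⟩
        let w : Fin 7 → AlgebraicClosure L := ![a, b, 0, 0, 0, 0, 0]
        have hw : w ≠ 0 := fun h => by
          rcases hab with ha | hb
          · exact ha (congrFun h 0)
          · exact hb (congrFun h 1)
        have hev : M.map i *ᵥ w = r • w := by
          ext k
          fin_cases k <;> simp [w, Matrix.mulVec, dotProduct, Fin.sum_univ_seven, hst]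
          · linear_combination e1
          · linear_combination e2
        rw [← Matrix.charpoly_map, Polynomial.IsRoot, Matrix.eval_charpoly, ← Matrix.exists_mulVec_eq_zero_iff]
        exact ⟨w, hw, by rw [Matrix.sub_mulVec, hev, Matrix.scalar_apply, ← Matrix.smul_one_eq_diagonal,
          Matrix.smul_mulVec, Matrix.one_mulVec, sub_self]⟩
      obtain ⟨lam, rfl⟩ := hrange
      have hd' : (M 0 0 - lam) * (M 1 1 - lam) - M 0 1 * M 1 0 = 0 := i.injective (by
        simp only [map_sub, map_mul, map_zero]; exact hd)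
      obtain ⟨a, b, hab, e1, e2⟩ : ∃ a b : L, (a ≠ 0 ∨ b ≠ 0) ∧
          M 0 0 * a + M 0 1 * b = lam * a ∧ M 1 0 * a + M 1 1 * b = lam * b := by
        by_cases hz : M 0 0 - lam = 0 ∧ M 0 1 = 0
        · by_cases hz2 : M 1 1 - lam = 0
          · exact ⟨0, 1, Or.inr one_ne_zero, by rw [hz.2]; ring, by linear_combination hz2⟩
          · exact ⟨M 1 1 - lam, -M 1 0, Or.inl hz2, by rw [hz.2]; linear_combination (M 1 1 - lam) * hz.1, by ring⟩
        · refine ⟨M 0 1, -(M 0 0 - lam), ?_, by ring, by linear_combination -hd'⟩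
          by_contra hc
          push Not at hc
          exact hz ⟨neg_eq_zero.1 hc.2, hc.1⟩
      refine conj_borel_of_eigen hzL hszL (v := ![a, b, 0, 0, 0, 0, 0]) (r := lam) (fun h => ?_) (by simp [Q7]) ?_
      · rcases hab with ha | hb
        · exact ha (congrFun h 0)
        · exact hb (congrFun h 1)
      · ext k
        rw [← hM]
        fin_cases k <;> simp [Matrix.mulVec, dotProduct, Fin.sum_univ_seven, hst]
        · linear_combination e1
        · linear_combination e2
  · -- of order prime to the characteristic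
    by_cases hev : ∀ r ∈ Spec.EigenOrder.eig (mat g), r ^ 2 = 1
    · have hn : ((orderOf g : ℕ) : F) ≠ 0 := by rwa [Ne, CharP.cast_eq_zero_iff F p]
      have h2 : mat g ^ 2 = 1 := pow_eq_one_of_eig hg hn
        (by rw [← mat_pow hg, mul_comm, pow_mul, pow_orderOf_eq_one, one_pow, mat_one]) hev
      have hgg : g * g = 1 := eq_one_of_mat (mul_mem hg hg) (by rw [← pow_two, mat_pow hg, h2])
      rcases eq_or_ne g 1 with rfl | hg1
      · exact ⟨1, one_mem _, by simp [one_mem]⟩
      have h2o : orderOf g = 2 := by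
        haveI := Fact.mk Nat.prime_two
        exact orderOf_eq_prime (by rw [pow_two, hgg]) hg1
      have hodd : Odd (Fintype.card F) := by
        obtain ⟨n, hpp, hcard⟩ := FiniteField.card F p
        rw [hcard]
        refine Odd.pow (hpp.odd_of_ne_two fun e => hp ?_)
        rw [e, h2o]
      obtain ⟨y, hy, hye⟩ := g2_involution_conj hodd hg hgg hg1
      refine ⟨mg y, map_group_le certG2 f hy, ?_⟩
      rw [← map_inv, ← map_mul, ← map_mul, hye]
      refine Subgroup.mem_sup_right ?_
      rw [← torusHom_range certG2, g2Inv, map_torusHom certG2]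
      exact ⟨_, rfl⟩
    push Not at hev
    obtain ⟨r, hr, hr2⟩ := hev
    obtain ⟨v0, hv0, he0⟩ := Spec.EigenOrder.mem_eig.1 hr
    -- the eigenvalue lies in the field
    have hroot : ∃ s : L, ((mat g).charpoly.map f).IsRoot s ∧ s ^ 2 ≠ 1 := by
      by_contra hall
      push Not at hall
      refine hr2 ?_
      have hK : (((mat g).charpoly.map f).map (algebraMap L (AlgebraicClosure L))).roots =
          ((mat g).charpoly.map f).roots.map (algebraMap L (AlgebraicClosure L)) := hs.roots_map _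
      let e : AlgebraicClosure F →+* AlgebraicClosure L :=
        letI : Algebra F (AlgebraicClosure L) := ((algebraMap L (AlgebraicClosure L)).comp f).toAlgebra
        (IsAlgClosed.lift : AlgebraicClosure F →ₐ[F] AlgebraicClosure L).toRingHom
      have hcomp : ((mat g).charpoly.map (algebraMap F (AlgebraicClosure F))).map e =
          ((mat g).charpoly.map f).map (algebraMap L (AlgebraicClosure L)) := by
        rw [Polynomial.map_map, Polynomial.map_map]
        congr 1
        letI : Algebra F (AlgebraicClosure L) := ((algebraMap L (AlgebraicClosure L)).comp f).toAlgebra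
        exact (IsAlgClosed.lift : AlgebraicClosure F →ₐ[F] AlgebraicClosure L).comp_algebraMap
      have h1 : e r ∈ (((mat g).charpoly.map f).map (algebraMap L (AlgebraicClosure L))).roots := by
        rw [← hcomp, Splits.roots_map (IsAlgClosed.splits _) e]
        exact Multiset.mem_map_of_mem e hr
      rw [hK, Multiset.mem_map] at h1
      obtain ⟨s, hs', hse⟩ := h1
      have := hall s (Polynomial.isRoot_of_mem_roots hs')
      refine e.injective ?_
      rw [map_pow, ← hse, ← map_pow, this, map_one, map_one]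
    obtain ⟨s, hs1, hs2⟩ := hroot
    rw [← Matrix.charpoly_map, ← mat_map f hg, Polynomial.IsRoot, Matrix.eval_charpoly,
      ← Matrix.exists_mulVec_eq_zero_iff] at hs1
    obtain ⟨v, hv, hev⟩ := hs1
    rw [Matrix.sub_mulVec, sub_eq_zero, Matrix.scalar_apply, ← Matrix.smul_one_eq_diagonal, Matrix.smul_mulVec,
      Matrix.one_mulVec] at hev
    refine conj_borel_of_eigen hgL hsL hv ?_ hev.symm
    have hq := Q7_mat hgL v
    rw [← hev, show Q7 (s • v) = s ^ 2 * Q7 v by simp [Q7]; ring] at hq
    by_contra hne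
    exact hs2 ((mul_eq_right₀ hne).1 hq)

end Two

end Cfsg.Lib.Chev.G2Seven
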