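import Cfsg.Agent.Lib.Chev.G2Seven.ExistTwo

/-!
Elements of prescribed orders in G2 in odd characteristic.
-/

set_option autoImplicit false
set_option maxRecDepth 100000

namespace Cfsg.Lib.Chev.G2Seven

open Cfsg.Lie Cfsg.Lib.Chev

variable {F : Type*} [Field F] [Fintype F]

/-- The product of the two fundamental root elements. -/
def regP : List Mon := prodP [px 7 1 0 0, px 6 1 0 0]

/-- The third power. -/
def regP3 : List Mon := mulP regP (mulP regP regP)

/-- The fifth power. -/
def regP5 : List Mon := mulP (mulP regP regP) regP3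

theorem chkReg : ((regP3.all fun p => decide (p.1.2.2 = (0, 0))) && (regP5.all fun p => decide (p.1.2.2 = (0, 0))) &&
    decide ((((regP3.filter fun q => decide (q.1.1 = 1 ∧ q.1.2.1 = 4)).map fun q => q.2).sum) = 5) &&
    decide ((((regP5.filter fun q => decide (q.1.1 = 0 ∧ q.1.2.1 = 5)).map fun q => q.2).sum) = 77)) = true := by
  decide +kernel

/-- An element of order the square of the characteristic. -/
theorem exists_p_sq (p : ℕ) [Fact p.Prime] [CharP F p] (hp : p = 3 ∨ p = 5) :
    ∃ g ∈ chevG2.group F, orderOf g = p ^ 2 := by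
  obtain ⟨hg, hm⟩ := mat_word (F := F) [7, 6] (by decide)
  set g := ([7, 6].map fun r => xg certG2 r (1 : F)).prod
  have h1 : mat g = evalP 1 1 regP := hm
  have hc := chkReg
  simp only [Bool.and_eq_true, List.all_eq_true, decide_eq_true_eq] at hc
  obtain ⟨⟨⟨a3, a5⟩, e3⟩, e5⟩ := hc
  have hne : mat (g ^ p) ≠ 1 := by
    rcases hp with rfl | rfl
    · intro e
      have h : mat (g ^ 3) = evalP 1 1 regP3 := by
        rw [show g ^ 3 = g * (g * g) by rw [pow_succ', pow_two], mat_mul hg (mul_mem hg hg), mat_mul hg hg, h1,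
          ← evalP_mulP, ← evalP_mulP, regP3]
      rw [h] at e
      have := congrFun (congrFun e 1) 4
      rw [evalP_apply 1 1 1 4 _ a3, e3, Matrix.one_apply_ne (by decide), CharP.intCast_eq_zero_iff F 3] at this
      norm_num at this
    · intro e
      have h : mat (g ^ 5) = evalP 1 1 regP5 := by
        have h2 : mat (g * g) = evalP 1 1 (mulP regP regP) := by rw [mat_mul hg hg, h1, ← evalP_mulP]
        have h3 : mat (g * (g * g)) = evalP 1 1 regP3 := by
          rw [mat_mul hg (mul_mem hg hg), h2, h1, ← evalP_mulP]; rfl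
        rw [show g ^ 5 = g * g * (g * (g * g)) by simp [pow_succ, mul_assoc], mat_mul (mul_mem hg hg) (mul_mem hg (mul_mem hg hg)),
          h2, h3, ← evalP_mulP]
        rfl
      rw [h] at e
      have := congrFun (congrFun e 0) 5
      rw [evalP_apply 1 1 0 5 _ a5, e5, Matrix.one_apply_ne (by decide), CharP.intCast_eq_zero_iff F 5] at this
      norm_num at this
  have hpp : g ^ (p ^ 2) = 1 := by
    refine pow_eq_one_of_lev (lev := fun i => (i : ℕ)) (S := [7, 6]) (by decide +kernel)
      (fun i => lt_of_lt_of_le i.2 (le_trans (by norm_num) (Nat.pow_le_pow_left (show 3 ≤ p by omega) 2))) ?_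
    refine list_prod_mem fun x hx => ?_
    obtain ⟨r, hr, rfl⟩ := List.mem_map.1 hx
    exact Subgroup.subset_closure ⟨r, hr, 1, rfl⟩
  refine ⟨g, hg, orderOf_eq_prime_pow (fun h => hne ?_) hpp⟩
  rw [pow_one] at h
  rw [h, mat_one]

/-- The Coxeter torus. -/
theorem exists_minus_odd (hq : 5 ≤ Fintype.card F) :
    ∃ g ∈ chevG2.group F, orderOf g = Fintype.card F ^ 2 - Fintype.card F + 1 := by
  rcases hq.eq_or_lt with h5 | h6
  · have hsep : TorSep chevG2 tblG2 torG2cox (5 : ℕ) := torSep_of_small certG2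
      (show chkSmall tblG2 torG2cox ((5 : ℕ) : ℤ) [12, 15, 16, 17, 20, 18, 3, 1, 4, 5, 6, 9] = true by decide +kernel)
    obtain ⟨H, hH, hc, -⟩ := exists_cyclic_self_centralizing certG2 h5.symm (K := fullCertG2) inv_G2
      (torOK_of_chk certG2 _ chkTor_G2cox) rfl hsep
    rw [ord_G2cox] at hc
    obtain ⟨g, hg⟩ := IsCyclic.exists_ofOrder_eq_natCard (α := H)
    refine ⟨_, (g : ↥(chevG2.group F)).2, ?_⟩
    rw [Subgroup.orderOf_coe, Subgroup.orderOf_coe, hg, ← h5]
    norm_num at hc ⊢
    exact_mod_cast hc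
  · exact exists_minus (Or.inr h6)

end Cfsg.Lib.Chev.G2Seven
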