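import Cfsg.Agent.Lib.Chev.G2Seven.Upper
import Cfsg.Agent.Lib.Chev.TorusG2Cox
import Cfsg.Agent.Lib.Linear.AbsorbPSL
import Cfsg.Agent.S2371
import Cfsg.Agent.S1059

/-!
Elements of prescribed orders in G2 in characteristic two.
-/

set_option autoImplicit false
set_option maxRecDepth 100000

namespace Cfsg.Lib.Chev.G2Seven

open Cfsg.Lie Cfsg.Lib.Chev
open Cfsg.Lib.ClassSquare.GTwo (phi psi torus psi_mem torus_mem torus_mul torus_one phi_upr phi_lwr sl_closure slPart slPart_val detU detU_val)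
open scoped Matrix MatrixGroups

/-- The test of equality modulo two. -/
def eqTwo (l l' : List Mon) : Bool :=
  (l ++ l').all fun p => decide ((((l ++ l').filter fun q => decide (q.1 = p.1)).map fun q => q.2).sum % 2 = 0)

theorem evalP_eqTwo {R : Type*} [CommRing R] [CharP R 2] (t u : R) {l l' : List Mon} (h : eqTwo l l' = true) :
    evalP t u l = evalP t u l' := by
  have hc : ∀ k, coefs (l ++ l') k % 2 = 0 := fun k => by
    rw [coefs_apply]
    by_cases hk : ∃ p ∈ l ++ l', p.1 = k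
    · obtain ⟨p, hp, rfl⟩ := hk
      exact of_decide_eq_true ((List.all_eq_true.1 h) p hp)
    · rw [show ((l ++ l').filter fun q => decide (q.1 = k)) = [] from List.filter_eq_nil_iff.2 fun q hq e =>
        hk ⟨q, hq, of_decide_eq_true e⟩]
      rfl
  have h0 : evalP t u (l ++ l') = 0 := by
    rw [evalP_coefs]
    refine Finset.sum_eq_zero fun k _ => ?_
    obtain ⟨m, hm⟩ := Int.dvd_of_emod_eq_zero (hc k)
    simp [evalMon, hm, (CharTwo.two_eq_zero : (2 : R) = 0)]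
  rw [evalP_append] at h0
  rw [eq_neg_of_add_eq_zero_left h0]
  ext i j
  exact CharTwo.neg_eq _

/-- A power of the word. -/
def w8_1 : List Mon := [
    ((0, 0, 0, 0), 1), ((0, 2, 0, 0), 1), ((1, 1, 0, 0), 1), ((1, 5, 0, 0), 1), ((2, 2, 0, 0), 1), ((3, 3, 0, 0), 1), ((3, 5, 0, 0), 1), ((4, 4, 0, 0), 1), ((4, 6, 0, 0), 1), ((5, 0, 0, 0), 1), ((5, 2, 0, 0), 1), ((5, 5, 0, 0), 1), ((6, 1, 0, 0), 1), ((6, 5, 0, 0), 1), ((6, 6, 0, 0), 1)]

/-- A power of the word. -/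
def w8_2 : List Mon := [
    ((0, 0, 0, 0), 1), ((1, 0, 0, 0), 1), ((1, 1, 0, 0), 1), ((1, 2, 0, 0), 1), ((2, 2, 0, 0), 1), ((3, 0, 0, 0), 1), ((3, 2, 0, 0), 1), ((3, 3, 0, 0), 1), ((4, 1, 0, 0), 1), ((4, 4, 0, 0), 1), ((4, 5, 0, 0), 1), ((5, 2, 0, 0), 1), ((5, 5, 0, 0), 1), ((6, 0, 0, 0), 1), ((6, 2, 0, 0), 1), ((6, 5, 0, 0), 1), ((6, 6, 0, 0), 1)]

/-- A power of the word. -/
def w8_4 : List Mon := [
    ((0, 0, 0, 0), 1), ((1, 1, 0, 0), 1), ((2, 2, 0, 0), 1), ((3, 3, 0, 0), 1), ((4, 0, 0, 0), 1), ((4, 4, 0, 0), 1), ((5, 5, 0, 0), 1), ((6, 2, 0, 0), 1), ((6, 6, 0, 0), 1)]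

/-- A power of the word. -/
def w12_1 : List Mon := [
    ((0, 0, 0, 0), 1), ((0, 6, 0, 0), 1), ((1, 1, 0, 0), 1), ((1, 4, 0, 0), 1), ((2, 2, 0, 0), 1), ((2, 5, 0, 0), 1), ((3, 0, 0, 0), 1), ((3, 3, 0, 0), 1), ((4, 1, 0, 0), 1), ((5, 0, 0, 0), 1), ((5, 2, 0, 0), 1), ((5, 6, 0, 0), 1), ((6, 0, 0, 0), 1), ((6, 1, 0, 0), 1), ((6, 4, 0, 0), 1)]

/-- A power of the word. -/
def w12_2 : List Mon := [
    ((0, 1, 0, 0), 1), ((0, 4, 0, 0), 1), ((0, 6, 0, 0), 1), ((1, 4, 0, 0), 1), ((2, 0, 0, 0), 1), ((2, 5, 0, 0), 1), ((2, 6, 0, 0), 1), ((3, 3, 0, 0), 1), ((3, 6, 0, 0), 1), ((4, 1, 0, 0), 1), ((4, 4, 0, 0), 1), ((5, 1, 0, 0), 1), ((5, 2, 0, 0), 1), ((5, 4, 0, 0), 1), ((5, 5, 0, 0), 1), ((5, 6, 0, 0), 1), ((6, 0, 0, 0), 1), ((6, 4, 0, 0), 1), ((6, 6, 0, 0), 1)]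

/-- A power of the word. -/
def w12_4 : List Mon := [
    ((0, 0, 0, 0), 1), ((0, 1, 0, 0), 1), ((0, 4, 0, 0), 1), ((0, 6, 0, 0), 1), ((1, 1, 0, 0), 1), ((1, 4, 0, 0), 1), ((2, 0, 0, 0), 1), ((2, 2, 0, 0), 1), ((2, 4, 0, 0), 1), ((2, 5, 0, 0), 1), ((2, 6, 0, 0), 1), ((3, 0, 0, 0), 1), ((3, 3, 0, 0), 1), ((3, 4, 0, 0), 1), ((4, 1, 0, 0), 1), ((5, 2, 0, 0), 1), ((5, 6, 0, 0), 1), ((6, 0, 0, 0), 1), ((6, 4, 0, 0), 1)]

/-- A power of the word. -/
def w12_8 : List Mon := [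
    ((0, 1, 0, 0), 1), ((0, 4, 0, 0), 1), ((0, 6, 0, 0), 1), ((1, 4, 0, 0), 1), ((2, 0, 0, 0), 1), ((2, 4, 0, 0), 1), ((2, 5, 0, 0), 1), ((2, 6, 0, 0), 1), ((3, 3, 0, 0), 1), ((3, 6, 0, 0), 1), ((4, 1, 0, 0), 1), ((4, 4, 0, 0), 1), ((5, 2, 0, 0), 1), ((5, 5, 0, 0), 1), ((5, 6, 0, 0), 1), ((6, 0, 0, 0), 1), ((6, 4, 0, 0), 1), ((6, 6, 0, 0), 1)]

/-- A power of the word. -/
def w12_6 : List Mon := [
    ((0, 0, 0, 0), 1), ((1, 1, 0, 0), 1), ((2, 1, 0, 0), 1), ((2, 2, 0, 0), 1), ((3, 3, 0, 0), 1), ((4, 4, 0, 0), 1), ((5, 4, 0, 0), 1), ((5, 5, 0, 0), 1), ((6, 6, 0, 0), 1)]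

theorem chk8 : eqTwo (prodP [px 0 1 0 0, px 8 1 0 0]) w8_1 = true ∧ eqTwo (mulP w8_1 w8_1) w8_2 = true ∧
    eqTwo (mulP w8_2 w8_2) w8_4 = true ∧ eqTwo (mulP w8_4 w8_4) oneP = true := by decide +kernel

theorem chk12 : eqTwo (prodP [px 0 1 0 0, px 2 1 0 0, px 9 1 0 0]) w12_1 = true ∧
    eqTwo (mulP w12_1 w12_1) w12_2 = true ∧ eqTwo (mulP w12_2 w12_2) w12_4 = true ∧
    eqTwo (mulP w12_4 w12_4) w12_8 = true ∧ eqTwo (mulP w12_4 w12_2) w12_6 = true ∧
    eqTwo (mulP w12_8 w12_4) oneP = true := by decide +kernel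

theorem evalP_apply {R : Type*} [CommRing R] (t u : R) (i j : Fin 7) : ∀ l : List Mon,
    (∀ p ∈ l, p.1.2.2 = (0, 0)) → evalP t u l i j =
      ((((l.filter fun q => decide (q.1.1 = i ∧ q.1.2.1 = j)).map fun q => q.2).sum : ℤ) : R)
  | [], _ => by simp [evalP_nil]
  | p :: l, h => by
    rw [evalP_cons, Matrix.add_apply, evalP_apply t u i j l fun q hq => h q (List.mem_cons_of_mem _ hq)]
    have hp := h p List.mem_cons_self
    have h1 : p.1.2.2.1 = 0 := congrArg Prod.fst hp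
    have h2 : p.1.2.2.2 = 0 := congrArg Prod.snd hp
    by_cases hij : p.1.1 = i ∧ p.1.2.1 = j
    · rw [List.filter_cons_of_pos (by simp [hij]), List.map_cons, List.sum_cons, Int.cast_add, evalMon,
        Matrix.single_apply, if_pos hij, h1, h2]
      simp
    · rw [List.filter_cons_of_neg (by simpa using hij), evalMon, Matrix.single_apply, if_neg hij, zero_add]

section Field

variable {F : Type*} [Field F] [Finite F]

theorem evalP_ne_one {l : List Mon} (hl : ∀ p ∈ l, p.1.2.2 = (0, 0)) {i j : Fin 7} (hij : i ≠ j)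
    (h : ((l.filter fun q => decide (q.1.1 = i ∧ q.1.2.1 = j)).map fun q => q.2).sum = 1) :
    evalP (1 : F) 1 l ≠ 1 := fun e => by
  have := congrFun (congrFun e i) j
  rw [evalP_apply 1 1 i j l hl, h, Matrix.one_apply_ne hij, Int.cast_one] at this
  exact one_ne_zero this

theorem mat_word (ws : List ℕ) (hws : ∀ r ∈ ws, r < 12) :
    (ws.map fun r => xg certG2 r (1 : F)).prod ∈ chevG2.group F ∧
      mat (ws.map fun r => xg certG2 r (1 : F)).prod = evalP (1 : F) 1 (prodP (ws.map fun r => px r 1 0 0)) := by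
  induction ws with
  | nil => exact ⟨by simp [one_mem], by simp [mat_one, prodP, evalP_oneP]⟩
  | cons r ws ih =>
    obtain ⟨h1, h2⟩ := ih fun s hs => hws s (List.mem_cons_of_mem _ hs)
    refine ⟨by rw [List.map_cons, List.prod_cons]; exact mul_mem (xg_mem_group certG2 _ _) h1, ?_⟩
    rw [List.map_cons, List.prod_cons, mat_mul (xg_mem_group certG2 _ _) h1, h2, List.map_cons, prodP, evalP_mulP,
      evalP_px, mat_xg (hws r List.mem_cons_self)]
    simp

/-- An element of order eight. -/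
theorem exists_eight [CharP F 2] : ∃ g ∈ chevG2.group F, orderOf g = 8 := by
  obtain ⟨hg, hm⟩ := mat_word (F := F) [0, 8] (by decide)
  set g := ([0, 8].map fun r => xg certG2 r (1 : F)).prod
  obtain ⟨c1, c2, c4, c8⟩ := chk8
  have m1 : mat g = evalP 1 1 w8_1 := hm.trans (evalP_eqTwo _ _ c1)
  have m4 : mat (g ^ 4) = evalP 1 1 w8_4 := by
    rw [mat_pow hg, show (4 : ℕ) = 2 * 2 from rfl, pow_mul, pow_two (mat g), m1, ← evalP_mulP, evalP_eqTwo _ _ c2,
      pow_two, ← evalP_mulP, evalP_eqTwo _ _ c4]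
  refine ⟨g, hg, ?_⟩
  haveI := Fact.mk Nat.prime_two
  refine orderOf_eq_prime_pow (p := 2) (n := 2) (fun h => ?_) ?_
  · have h1 : mat (g ^ 4) = 1 := by rw [show (4 : ℕ) = 2 ^ 2 from rfl, h, mat_one]
    rw [m4] at h1
    exact evalP_ne_one (by decide +kernel) (show (4 : Fin 7) ≠ 0 by decide) (by decide +kernel) h1
  · refine eq_one_of_mat (pow_mem hg _) ?_
    rw [show (2 : ℕ) ^ (2 + 1) = 4 * 2 from rfl, pow_mul, mat_pow (pow_mem hg 4), m4, pow_two, ← evalP_mulP,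
      evalP_eqTwo _ _ c8, evalP_oneP]

/-- An element of order twelve. -/
theorem exists_twelve [CharP F 2] : ∃ g ∈ chevG2.group F, orderOf g = 12 := by
  obtain ⟨hg, hm⟩ := mat_word (F := F) [0, 2, 9] (by decide)
  set g := ([0, 2, 9].map fun r => xg certG2 r (1 : F)).prod
  obtain ⟨c1, c2, c4, c8, c6, c12⟩ := chk12
  have m1 : mat g = evalP 1 1 w12_1 := hm.trans (evalP_eqTwo _ _ c1)
  have m2 : mat (g ^ 2) = evalP 1 1 w12_2 := by rw [mat_pow hg, pow_two, m1, ← evalP_mulP, evalP_eqTwo _ _ c2]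
  have m4 : mat (g ^ 4) = evalP 1 1 w12_4 := by
    rw [show g ^ 4 = g ^ 2 * g ^ 2 by rw [← pow_add], mat_mul (pow_mem hg 2) (pow_mem hg 2), m2, ← evalP_mulP,
      evalP_eqTwo _ _ c4]
  have m8 : mat (g ^ 8) = evalP 1 1 w12_8 := by
    rw [show g ^ 8 = g ^ 4 * g ^ 4 by rw [← pow_add], mat_mul (pow_mem hg 4) (pow_mem hg 4), m4, ← evalP_mulP,
      evalP_eqTwo _ _ c8]
  have m6 : mat (g ^ 6) = evalP 1 1 w12_6 := by
    rw [show g ^ 6 = g ^ 4 * g ^ 2 by rw [← pow_add], mat_mul (pow_mem hg 4) (pow_mem hg 2), m4, m2, ← evalP_mulP,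
      evalP_eqTwo _ _ c6]
  have h12 : g ^ 12 = 1 := eq_one_of_mat (pow_mem hg _) (by
    rw [show g ^ 12 = g ^ 8 * g ^ 4 by rw [← pow_add], mat_mul (pow_mem hg 8) (pow_mem hg 4), m8, m4, ← evalP_mulP,
      evalP_eqTwo _ _ c12, evalP_oneP])
  have h4 : g ^ 4 ≠ 1 := fun h => by
    rw [h, mat_one] at m4
    exact evalP_ne_one (by decide +kernel) (show (0 : Fin 7) ≠ 1 by decide) (by decide +kernel) m4.symm
  have h6 : g ^ 6 ≠ 1 := fun h => by
    rw [h, mat_one] at m6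
    exact evalP_ne_one (by decide +kernel) (show (2 : Fin 7) ≠ 1 by decide) (by decide +kernel) m6.symm
  refine ⟨g, hg, ?_⟩
  have hd := orderOf_dvd_of_pow_eq_one h12
  have n4 : ¬ orderOf g ∣ 4 := fun h => h4 (orderOf_dvd_iff_pow_eq_one.1 h)
  have n6 : ¬ orderOf g ∣ 6 := fun h => h6 (orderOf_dvd_iff_pow_eq_one.1 h)
  have hle := Nat.le_of_dvd (by norm_num) hd
  interval_cases (orderOf g) <;> omega

set_option maxHeartbeats 1600000 in
/-- The action of the short root subgroup on the first plane. -/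
theorem block_phi (s : SL(2, F)) : phi s ∈ chevG2.group F ∧
    mat (phi s) *ᵥ Pi.single 0 1 = s.1 0 0 • Pi.single (0 : Fin 7) (1 : F) + s.1 1 0 • Pi.single 1 1 ∧
    mat (phi s) *ᵥ Pi.single 1 1 = s.1 0 1 • Pi.single (0 : Fin 7) (1 : F) + s.1 1 1 • Pi.single 1 1 := by
  have hu : ∀ b : F, mat (phi (SLTwoRel.upr b)) *ᵥ Pi.single 0 1 = Pi.single (0 : Fin 7) (1 : F) ∧
      mat (phi (SLTwoRel.upr b)) *ᵥ Pi.single 1 1 = b • Pi.single (0 : Fin 7) (1 : F) + Pi.single 1 1 := fun b => by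
    rw [phi_upr, Cfsg.Lib.ClassSquare.GTwo.xx, mat_xg (by decide), mulVec_eq, mulVec_eq]
    constructor <;> ext k <;> fin_cases k <;> simp [rootTerms, Pi.single_apply]
  have hl : ∀ b : F, mat (phi (SLTwoRel.lwr b)) *ᵥ Pi.single 0 1 = Pi.single (0 : Fin 7) (1 : F) + b • Pi.single 1 1 ∧
      mat (phi (SLTwoRel.lwr b)) *ᵥ Pi.single 1 1 = Pi.single (1 : Fin 7) (1 : F) := fun b => by
    rw [phi_lwr, Cfsg.Lib.ClassSquare.GTwo.xx, mat_xg (by decide), mulVec_eq, mulVec_eq]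
    constructor <;> ext k <;> fin_cases k <;> simp [rootTerms, Pi.single_apply]
  have hs : s ∈ Subgroup.closure (Set.range SLTwoRel.upr ∪ Set.range SLTwoRel.lwr : Set SL(2, F)) :=
    (sl_closure (F := F)).symm ▸ Subgroup.mem_top s
  rw [← Subgroup.mem_toSubmonoid, Subgroup.closure_toSubmonoid] at hs
  refine Submonoid.closure_induction (motive := fun s _ => phi s ∈ chevG2.group F ∧
    mat (phi s) *ᵥ Pi.single 0 1 = s.1 0 0 • Pi.single (0 : Fin 7) (1 : F) + s.1 1 0 • Pi.single 1 1 ∧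
    mat (phi s) *ᵥ Pi.single 1 1 = s.1 0 1 • Pi.single (0 : Fin 7) (1 : F) + s.1 1 1 • Pi.single 1 1) ?_ ?_ ?_ hs
  · intro x hx
    obtain ⟨b, rfl⟩ | ⟨b, rfl⟩ : (∃ b, x = SLTwoRel.upr b) ∨ ∃ b, x = SLTwoRel.lwr b := by
      rcases hx with (⟨b, rfl⟩ | ⟨b, rfl⟩) | hx
      · exact Or.inl ⟨b, rfl⟩
      · exact Or.inr ⟨b, rfl⟩
      · rcases Set.mem_inv.1 hx with ⟨b, e⟩ | ⟨b, e⟩
        · refine Or.inl ⟨-b, ?_⟩
          rw [← inv_inv x, ← e]
          refine inv_eq_of_mul_eq_one_right (Subtype.ext ?_)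
          ext i j; fin_cases i <;> fin_cases j <;>
            simp [SLTwoRel.coe_upr, Matrix.SpecialLinearGroup.coe_mul, Matrix.mul_apply, Fin.sum_univ_two]
        · refine Or.inr ⟨-b, ?_⟩
          rw [← inv_inv x, ← e]
          refine inv_eq_of_mul_eq_one_right (Subtype.ext ?_)
          ext i j; fin_cases i <;> fin_cases j <;>
            simp [Cfsg.Lib.ClassSquare.GTwo.lwr_val, Matrix.SpecialLinearGroup.coe_mul, Matrix.mul_apply,
              Fin.sum_univ_two]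
    · refine ⟨by rw [phi_upr]; exact xg_mem_group certG2 _ _, ?_, ?_⟩
      · rw [(hu b).1]; simp [SLTwoRel.coe_upr]
      · rw [(hu b).2]; simp [SLTwoRel.coe_upr]
    · refine ⟨by rw [phi_lwr]; exact xg_mem_group certG2 _ _, ?_, ?_⟩
      · rw [(hl b).1]; simp [Cfsg.Lib.ClassSquare.GTwo.lwr_val]
      · rw [(hl b).2]; simp [Cfsg.Lib.ClassSquare.GTwo.lwr_val]
  · refine ⟨by rw [map_one]; exact one_mem _, ?_, ?_⟩ <;> rw [map_one, mat_one, Matrix.one_mulVec] <;> simp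
  · rintro x y _ _ ⟨hx, hx0, hx1⟩ ⟨hy, hy0, hy1⟩
    refine ⟨by rw [map_mul]; exact mul_mem hx hy, ?_, ?_⟩ <;>
    · rw [map_mul, mat_mul hx hy, ← Matrix.mulVec_mulVec]
      simp only [hy0, hy1, Matrix.mulVec_add, Matrix.mulVec_smul, hx0, hx1, Matrix.SpecialLinearGroup.coe_mul,
        Matrix.mul_apply, Fin.sum_univ_two]
      module

theorem psi_injective : Function.Injective (psi : GL (Fin 2) F →* GL chevG2.Idx F) := by
  rw [injective_iff_map_eq_one]
  intro g hg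
  obtain ⟨hs, h0, h1⟩ := block_phi (slPart g)
  have hT : torus 1 (detU g) ∈ chevG2.group F := diag_le_group certG2 (torus_mem _ _)
  have e : mat (psi g) = 1 := by rw [hg, mat_one]
  rw [Cfsg.Lib.ClassSquare.GTwo.psi_eq, mat_mul hs hT, mat_torus] at e
  have hd0 := g.1.det
  have hdet := Matrix.GeneralLinearGroup.det_ne_zero g
  have e0 : (1 : Matrix (Fin 7) (Fin 7) F) *ᵥ Pi.single 0 1 =
      mat (phi (slPart g)) *ᵥ Pi.single (0 : Fin 7) (1 : F) := by
    rw [← e, ← Matrix.mulVec_mulVec]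
    congr 1
    ext k; fin_cases k <;> simp [dgv, Matrix.mulVec_diagonal, Pi.single_apply, Fin.ext_iff]
  have e1 : (1 : Matrix (Fin 7) (Fin 7) F) *ᵥ Pi.single 1 1 =
      g.1.det • (mat (phi (slPart g)) *ᵥ Pi.single (1 : Fin 7) (1 : F)) := by
    rw [← e, ← Matrix.mulVec_mulVec, ← Matrix.mulVec_smul]
    congr 1
    ext k; fin_cases k <;> simp [dgv, Matrix.mulVec_diagonal, Pi.single_apply, Fin.ext_iff, detU_val]
  rw [h0, Matrix.one_mulVec] at e0
  rw [h1, Matrix.one_mulVec] at e1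
  have a00 := congrFun e0 0
  have a10 := congrFun e0 1
  have a01 := congrFun e1 0
  have a11 := congrFun e1 1
  simp [slPart_val] at a00 a10 a01 a11
  refine Units.ext ?_
  ext i j
  fin_cases i <;> fin_cases j
  · simpa using a00.symm
  · field_simp at a01; simpa [hdet] using a01.symm
  · simpa using a10.symm
  · field_simp at a11; simpa using a11.symm

end Field

section Card

variable {F : Type*} [Field F] [Fintype F]

theorem exists_gl_singer : ∃ A : GL (Fin 2) F, orderOf A = Fintype.card F ^ 2 - 1 := by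
  obtain ⟨p, hp⟩ := CharP.exists F
  haveI := hp
  obtain ⟨k, hpk, hk⟩ := FiniteField.card F p
  haveI := Fact.mk hpk
  let K := FiniteField.Extension F p 2
  let b : Module.Basis (Fin 2) F K := (Module.finBasis F K).reindex (finCongr (FiniteField.finrank_extension F p 2))
  obtain ⟨ω, hω⟩ := IsCyclic.exists_ofOrder_eq_natCard (α := Kˣ)
  rw [Nat.card_units, FiniteField.natCard_extension, Nat.card_eq_fintype_card] at hω
  refine ⟨Units.map (Algebra.leftMulMatrix b).toRingHom.toMonoidHom ω, ?_⟩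
  rw [orderOf_injective _ (Units.map_injective (Algebra.leftMulMatrix_injective b)), hω]

theorem orderOf_psi (A : GL (Fin 2) F) : orderOf (psi A) = orderOf A :=
  orderOf_injective _ psi_injective A

theorem exists_sq_sub_one : ∃ g ∈ chevG2.group F, orderOf g = Fintype.card F ^ 2 - 1 := by
  obtain ⟨A, hA⟩ := exists_gl_singer (F := F)
  exact ⟨psi A, psi_mem A, by rw [orderOf_psi, hA]⟩

theorem chkEleven : ∀ r ∈ [4, 7], (tTerms tblG2 r 11).isEmpty = true ∧ 11 ≠ r ∧ 11 ≠ tblG2.neg r := by decide +kernel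

/-- An element of determinant one times a commuting long root element. -/
theorem exists_mul_prime (p : ℕ) [Fact p.Prime] [CharP F p] (A : GL (Fin 2) F) (hA : A.1.det = 1)
    (hcop : (orderOf A).Coprime p) : ∃ g ∈ chevG2.group F, orderOf g = orderOf A * p := by
  have hd : detU A = 1 := Units.ext hA
  have hpsi : psi A = phi (slPart A) := by
    rw [Cfsg.Lib.ClassSquare.GTwo.psi_eq, hd, torus_one, mul_one]
  have hc : Commute (psi A) (xg certG2 11 (1 : F)) := by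
    rw [hpsi]
    have hs : slPart A ∈ Subgroup.closure (Set.range SLTwoRel.upr ∪ Set.range SLTwoRel.lwr : Set SL(2, F)) :=
      (sl_closure (F := F)).symm ▸ Subgroup.mem_top _
    have hle : Subgroup.closure (Set.range SLTwoRel.upr ∪ Set.range SLTwoRel.lwr : Set SL(2, F)) ≤
        (Subgroup.centralizer ({xg certG2 11 (1 : F)} : Set (GL chevG2.Idx F))).comap phi := by
      refine (Subgroup.closure_le _).2 ?_
      rintro _ (⟨b, rfl⟩ | ⟨b, rfl⟩)
      · obtain ⟨h1, h2, h3⟩ := chkEleven 7 (by decide)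
        show phi _ ∈ Subgroup.centralizer _
        rw [phi_upr, Subgroup.mem_centralizer_singleton_iff]
        exact (xg_commute_nil (by decide) (by decide) h2 h3 (List.isEmpty_iff.1 h1) b 1).eq
      · obtain ⟨h1, h2, h3⟩ := chkEleven 4 (by decide)
        show phi _ ∈ Subgroup.centralizer _
        rw [phi_lwr, Subgroup.mem_centralizer_singleton_iff]
        exact (xg_commute_nil (by decide) (by decide) h2 h3 (List.isEmpty_iff.1 h1) b 1).eq
    exact Subgroup.mem_centralizer_singleton_iff.1 (hle hs)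
  have ho : orderOf (xg certG2 11 (1 : F)) = p := by
    refine orderOf_eq_prime ?_ fun h => one_ne_zero (xg_eq_one certG2 (by decide) h)
    rw [xg_pow, CharP.cast_eq_zero, zero_mul, xg_zero]
  refine ⟨psi A * xg certG2 11 (1 : F), mul_mem (psi_mem A) (xg_mem_group certG2 _ _), ?_⟩
  rw [hc.orderOf_mul_eq_mul_orderOf_of_coprime (by rwa [orderOf_psi, ho]), orderOf_psi, ho]

theorem exists_det_one (b : Bool) : ∃ A : GL (Fin 2) F, A.1.det = 1 ∧
    orderOf A = if b then Fintype.card F + 1 else Fintype.card F - 1 := by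
  cases b
  · obtain ⟨ν, hν⟩ := IsCyclic.exists_ofOrder_eq_natCard (α := Fˣ)
    rw [Nat.card_units, Nat.card_eq_fintype_card] at hν
    let dia : Fˣ →* GL (Fin 2) F :=
      (Units.map (Matrix.diagonalRingHom (Fin 2) F).toMonoidHom).comp
        (MulEquiv.piUnits (M := fun _ : Fin 2 => F)).symm.toMonoidHom |>.comp
        (MonoidHom.mk' (fun u : Fˣ => ![u, u⁻¹]) fun u v => by
          funext i; fin_cases i <;> simp [mul_comm])
    have hdia : ∀ u, (dia u : Matrix (Fin 2) (Fin 2) F) = Matrix.diagonal ![(u : F), (u : F)⁻¹] := fun u => by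
      show Matrix.diagonal _ = _
      congr 1; funext i; fin_cases i <;> simp
    have hinj : Function.Injective dia := fun u v h => by
      have := congrArg (fun A : GL (Fin 2) F => A.1 0 0) h
      simp only [hdia] at this
      exact Units.ext (by simpa using this)
    refine ⟨dia ν, ?_, by rw [orderOf_injective _ hinj, hν]; simp⟩
    rw [hdia, Matrix.det_diagonal]; simp
  · obtain ⟨A, hA⟩ := exists_gl_singer (F := F)
    set q := Fintype.card F
    have hq : 1 < q := Fintype.one_lt_card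
    refine ⟨A ^ (q - 1), ?_, ?_⟩
    · rw [Units.val_pow_eq_pow_val, Matrix.det_pow]
      exact FiniteField.pow_card_sub_one_eq_one _ (Matrix.GeneralLinearGroup.det_ne_zero A)
    · rw [orderOf_pow_of_dvd (by omega) (by rw [hA, ← one_pow 2, Nat.sq_sub_sq]; exact dvd_mul_left _ _), hA, if_pos rfl,
        ← one_pow 2, Nat.sq_sub_sq, one_pow, Nat.mul_div_cancel _ (by omega)]

/-- The two large tori. -/
theorem exists_plus (hq : 3 ≤ Fintype.card F) :
    ∃ g ∈ chevG2.group F, orderOf g = Fintype.card F ^ 2 + Fintype.card F + 1 := by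
  obtain ⟨H, hH, hc, -⟩ := Cfsg.Agent.S2371.result (F := F) _ rfl hq
  obtain ⟨g, hg⟩ := IsCyclic.exists_ofOrder_eq_natCard (α := H)
  exact ⟨_, (g : ↥(chevG2.group F)).2, by rw [Subgroup.orderOf_coe, Subgroup.orderOf_coe, hg, hc]⟩

theorem exists_minus (hq : Fintype.card F = 4 ∨ 6 ≤ Fintype.card F) :
    ∃ g ∈ chevG2.group F, orderOf g = Fintype.card F ^ 2 - Fintype.card F + 1 := by
  rcases hq with h4 | h6
  · haveI : Fact (Nat.Prime 13) := ⟨by norm_num⟩
    obtain ⟨g, hg⟩ := exists_prime_orderOf_dvd_card' (G := ↥(chevG2.group F)) 13 (by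
      rw [Cfsg.Agent.S1059.result h4]; norm_num)
    exact ⟨_, g.2, by rw [Subgroup.orderOf_coe, hg, h4]; norm_num⟩
  · have hsep : TorSep chevG2 tblG2 torG2cox (Fintype.card F) := by
      refine torSep_of_large certG2 (by omega) chkLarge_G2cox ?_
      rw [ord_G2cox, show chevG2.rank = 2 from rfl]
      simp only [Finset.sum_range_succ, Finset.sum_range_zero]
      have h : (6 : ℤ) ≤ Fintype.card F := by exact_mod_cast h6
      nlinarith
    obtain ⟨H, hH, hc, -⟩ := exists_cyclic_self_centralizing certG2 rfl (K := fullCertG2) inv_G2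
      (torOK_of_chk certG2 _ chkTor_G2cox) rfl hsep
    rw [ord_G2cox] at hc
    obtain ⟨g, hg⟩ := IsCyclic.exists_ofOrder_eq_natCard (α := H)
    refine ⟨_, (g : ↥(chevG2.group F)).2, ?_⟩
    rw [Subgroup.orderOf_coe, Subgroup.orderOf_coe, hg]
    have hle : Fintype.card F ≤ Fintype.card F ^ 2 := Nat.le_self_pow two_ne_zero _
    exact Int.ofNat_inj.1 (by rw [hc]; push_cast [Nat.cast_sub hle]; ring)

end Card

end Cfsg.Lib.Chev.G2Seven
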