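import Cfsg.Agent.Lib.Chev.G2Seven.Conj
import Cfsg.Agent.Lib.Chev.ReeSinger

/-!
The normal form of an element over a large field: a torus element times a commuting unipotent element, and the
stability of the torus part under the Frobenius map.
-/

set_option autoImplicit false
set_option maxRecDepth 100000

namespace Cfsg.Lib.Chev.G2Seven

open Cfsg.Lie Cfsg.Lib.Chev

section Complement

variable {G : Type*} [Group G]

/-- In a product of a normal `p`-group and an abelian group of order prime to `p` the elements of order prime to `p`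
are conjugate into the abelian group. -/
theorem conj_into_torus [Finite G] {p : ℕ} [Fact p.Prime] {B U T : Subgroup G} (hU : IsPGroup p ↥U) (hUB : U ≤ B)
    (hTB : T ≤ B) (hnorm : ∀ b ∈ B, ∀ u ∈ U, b * u * b⁻¹ ∈ U) (hdec : ∀ b ∈ B, ∃ u ∈ U, ∃ t ∈ T, b = u * t)
    (hdis : ∀ z ∈ U, z ∈ T → z = 1) (hcomm : ∀ a ∈ T, ∀ b ∈ T, a * b = b * a) :
    ∀ (n : ℕ) {s : G} {S : Set G}, S ⊆ T → s ∈ B → (∀ a ∈ S, s * a = a * s) → orderOf s = n → ¬ p ∣ n →
      ∃ y, y ∈ B ∧ (∀ a ∈ S, y * a = a * y) ∧ y * s * y⁻¹ ∈ T := by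
  intro n
  induction n using Nat.strong_induction_on with
  | _ n ih =>
    intro s S hS hsB hsS hn hpn
    rcases eq_or_ne n 1 with rfl | h1
    · refine ⟨1, one_mem _, fun a _ => by simp, ?_⟩
      rw [orderOf_eq_one_iff.1 hn]; simp [one_mem]
    have hn0 : n ≠ 0 := by rw [← hn]; exact (orderOf_pos s).ne'
    obtain ⟨l, hl, hln⟩ := Nat.exists_prime_and_dvd h1
    haveI := Fact.mk hl
    have hlp : l ≠ p := fun e => hpn (e ▸ hln)
    obtain ⟨e, he⟩ : ∃ e, e = l ^ n.factorization l := ⟨_, rfl⟩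
    have hfac : 1 ≤ n.factorization l := hl.factorization_pos_of_dvd hn0 hln
    obtain ⟨m, hm⟩ : e ∣ n := he ▸ Nat.ordProj_dvd n l
    have hcop : Nat.Coprime e m := by
      have : m = n / e := by rw [hm, Nat.mul_div_cancel_left _ (Nat.pos_of_ne_zero (by rw [he]; exact pow_ne_zero _ hl.ne_zero))]
      rw [this, he]; exact (Nat.coprime_ordCompl hl hn0).pow_left _
    -- the `l`-part
    set H : Subgroup G := B ⊓ Subgroup.centralizer S with hH
    have hmemH : ∀ {g : G}, g ∈ H ↔ g ∈ B ∧ ∀ a ∈ S, g * a = a * g := fun {g} => by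
      rw [hH, Subgroup.mem_inf, Subgroup.mem_centralizer_iff]
      exact and_congr_right fun _ => forall_congr' fun a => ⟨fun h ha => (h ha).symm, fun h ha => (h ha).symm⟩
    have hTH : T ≤ H := fun t ht => hmemH.2 ⟨hTB ht, fun a ha => hcomm t ht a (hS ha)⟩
    have hsH : s ∈ H := hmemH.2 ⟨hsB, hsS⟩
    set s1 : ↥H := ⟨s ^ m, pow_mem hsH m⟩ with hs1
    have hos1 : orderOf s1 = e := by
      rw [hs1, Subgroup.orderOf_mk, orderOf_pow_of_dvd (by rintro rfl; exact hn0 (by rw [hm, mul_zero]))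
        (by rw [hn, hm]; exact dvd_mul_left m e), hn, hm, Nat.mul_div_cancel _ (Nat.pos_of_ne_zero (by rintro rfl; exact hn0 (by rw [hm, mul_zero])))]
    set P : Subgroup ↥H := Subgroup.zpowers s1
    have hP : IsPGroup l ↥P := IsPGroup.of_card (n := n.factorization l) (by rw [Nat.card_zpowers, hos1, he])
    have hcardH : Nat.card (↥H ⧸ T.subgroupOf H) = Nat.card ↥(U.subgroupOf H) := by
      refine (Nat.card_congr (Equiv.ofBijective
        (fun u : ↥(U.subgroupOf H) => ((u : ↥H) : ↥H ⧸ T.subgroupOf H)) ⟨fun a b hab => ?_, fun x => ?_⟩)).symm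
      · rw [QuotientGroup.eq, Subgroup.mem_subgroupOf, Subgroup.coe_mul, Subgroup.coe_inv] at hab
        refine Subtype.ext (Subtype.ext ?_)
        exact inv_mul_eq_one.1 (hdis _ (mul_mem (inv_mem (Subgroup.mem_subgroupOf.1 a.2))
          (Subgroup.mem_subgroupOf.1 b.2)) hab)
      · obtain ⟨g, rfl⟩ := QuotientGroup.mk_surjective x
        obtain ⟨u, hu, t, ht, hg⟩ := hdec _ (hmemH.1 g.2).1
        have huH : u ∈ H := by
          rw [show u = (g : G) * t⁻¹ by rw [hg, mul_inv_cancel_right]]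
          exact mul_mem g.2 (inv_mem (hTH ht))
        refine ⟨⟨⟨u, huH⟩, hu⟩, QuotientGroup.eq.2 ?_⟩
        rw [Subgroup.mem_subgroupOf, Subgroup.coe_mul, Subgroup.coe_inv]
        show u⁻¹ * (g : G) ∈ T
        rw [hg, inv_mul_cancel_left]; exact ht
    have hnd : ¬ l ∣ Nat.card (↥H ⧸ T.subgroupOf H) := by
      obtain ⟨k, hk⟩ := (IsPGroup.iff_card).1 (hU.comap_of_injective H.subtype Subtype.val_injective)
      rw [hcardH, show Nat.card ↥(U.subgroupOf H) = p ^ k from hk]
      exact fun h => hlp ((Nat.prime_dvd_prime_iff_eq hl Fact.out).1 (hl.dvd_of_dvd_pow h))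
    obtain ⟨x, hx⟩ := hP.nonempty_fixed_point_of_prime_not_dvd_card (↥H ⧸ T.subgroupOf H) hnd
    obtain ⟨y, rfl⟩ := QuotientGroup.mk_surjective x
    have hy := (hx ⟨s1, Subgroup.mem_zpowers s1⟩).symm
    have hy' : (y : G)⁻¹ * s ^ m * (y : G) ∈ T := by
      have h := QuotientGroup.eq.1 (show ((y : ↥H) : ↥H ⧸ T.subgroupOf H) = ((s1 * y : ↥H) : ↥H ⧸ T.subgroupOf H) from hy)
      rw [Subgroup.mem_subgroupOf, Subgroup.coe_mul, Subgroup.coe_inv, Subgroup.coe_mul] at h
      simpa [hs1, mul_assoc] using h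
    -- the other part
    set t1 := (y : G)⁻¹ * s ^ m * (y : G)
    set s2 := (y : G)⁻¹ * s ^ e * (y : G) with hs2
    have hyH := hmemH.1 y.2
    have hs2o : orderOf s2 = m := by
      rw [hs2, show (y : G)⁻¹ * s ^ e * (y : G) = MulAut.conj (y : G)⁻¹ (s ^ e) by simp, MulEquiv.orderOf_eq,
        orderOf_pow_of_dvd (by rw [he]; exact pow_ne_zero _ hl.ne_zero) (by rw [hn, hm]; exact dvd_mul_right e m), hn, hm,
        Nat.mul_div_cancel_left _ (Nat.pos_of_ne_zero (by rw [he]; exact pow_ne_zero _ hl.ne_zero))]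
    have hmn : m < n := by
      rw [hm]
      refine lt_mul_of_one_lt_left (Nat.pos_of_ne_zero ?_) (he ▸ Nat.one_lt_pow (by omega) hl.one_lt)
      rintro rfl; exact hn0 (by rw [hm, mul_zero])
    obtain ⟨z, hzB, hzS, hz⟩ := ih m hmn (s := s2) (S := S ∪ {t1}) (Set.union_subset hS (by simpa using hy'))
      (mul_mem (mul_mem (inv_mem hyH.1) (pow_mem hsB e)) hyH.1)
      (fun a ha => by
        rcases ha with ha | ha
        · have := (hmemH.1 (show s2 ∈ H from mul_mem (mul_mem (inv_mem y.2) (pow_mem hsH e)) y.2)).2 a ha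
          exact this
        · rw [Set.mem_singleton_iff.1 ha]
          exact (by simpa [hs2, t1] using
            ((Commute.refl s).pow_pow e m).map (MulAut.conj (y : G)⁻¹).toMonoidHom : Commute s2 t1).eq)
      hs2o (fun h => hpn (hm ▸ h.mul_left e))
    refine ⟨z * (y : G)⁻¹, mul_mem hzB (inv_mem hyH.1), fun a ha => ?_, ?_⟩
    · have hc : Commute z a := hzS a (Or.inl ha)
      exact (hc.mul_left (show Commute (y : G) a from hyH.2 a ha).inv_left).eq
    · obtain ⟨a, b, hab⟩ : ∃ a b : ℤ, a * e + b * m = 1 :=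
        ⟨Nat.gcdA e m, Nat.gcdB e m, by
          have := Nat.gcd_eq_gcd_ab e m
          rw [hcop] at this; push_cast at this; linarith⟩
      have hs : s = (s ^ e) ^ a * (s ^ m) ^ b := by
        rw [← zpow_natCast s e, ← zpow_natCast s m, ← zpow_mul, ← zpow_mul, ← zpow_add, mul_comm (e : ℤ), mul_comm (m : ℤ),
          hab, zpow_one]
      have hz1 : z * t1 * z⁻¹ = t1 := by
        rw [show z * t1 = t1 * z from hzS t1 (Or.inr rfl), mul_inv_cancel_right]
      rw [hs]
      have key : z * (y : G)⁻¹ * ((s ^ e) ^ a * (s ^ m) ^ b) * (z * (y : G)⁻¹)⁻¹ =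
          (z * s2 * z⁻¹) ^ a * (z * t1 * z⁻¹) ^ b := by
        rw [conj_zpow, conj_zpow, hs2, show t1 = (y : G)⁻¹ * s ^ m * (y : G) from rfl,
          show ∀ k : ℤ, ((y : G)⁻¹ * s ^ e * (y : G)) ^ k = (y : G)⁻¹ * (s ^ e) ^ k * (y : G) from fun k => by
            simpa using ((MulAut.conj (y : G)⁻¹).toMonoidHom.map_zpow (s ^ e) k).symm,
          show ∀ k : ℤ, ((y : G)⁻¹ * s ^ m * (y : G)) ^ k = (y : G)⁻¹ * (s ^ m) ^ k * (y : G) from fun k => by
            simpa using ((MulAut.conj (y : G)⁻¹).toMonoidHom.map_zpow (s ^ m) k).symm]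
        group
      rw [key, hz1]
      exact mul_mem (Subgroup.zpow_mem _ hz a) (Subgroup.zpow_mem _ hy' b)

end Complement

section Normal

variable {F : Type*} [Field F] [Finite F]

open Cfsg.Lib.ClassSquare.GTwo (torus torus_mem cvec)

theorem exists_torus {h : GL chevG2.Idx F} (hh : h ∈ chevG2.diagonalSubgroup F) : ∃ x y, h = torus x y := by
  rw [← torusHom_range certG2] at hh
  obtain ⟨c, rfl⟩ := hh
  refine ⟨c ⟨0, by decide⟩, c ⟨1, by decide⟩, congrArg (torusHom chevG2 tblG2 F) (funext fun i => ?_)⟩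
  have h2 : (i : ℕ) < 2 := i.2
  unfold cvec
  split_ifs with h
  · exact congrArg c (Fin.ext h)
  · exact congrArg c (Fin.ext (show (i : ℕ) = 1 by omega))

/-- The roots of the torus element. -/
noncomputable def chrT (x y : Fˣ) (r : ℕ) : F := chr tblG2 chevG2 (extend' (cvec x y)) r

theorem torus_conj' (x y : Fˣ) {r : ℕ} (hr : r < 12) (t : F) :
    torus x y * xg certG2 r t * (torus x y)⁻¹ = xg certG2 r (chrT x y r * t) :=
  Cfsg.Lib.Chev.torusHom_conj_xg certG2 _ hr t

/-- The root elements commuting with a torus element. -/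
noncomputable def fixPos (x y : Fˣ) : Subgroup (GL chevG2.Idx F) :=
  Subgroup.closure {g | ∃ r, 6 ≤ r ∧ r < 12 ∧ chrT x y r = 1 ∧ ∃ t, g = xg certG2 r t}

theorem mem_fixPos (x y : Fˣ) (m : ℕ) : ∀ {k : ℕ}, 6 ≤ k → k + m = 12 → ∀ {u : GL chevG2.Idx F},
    u ∈ upper certG2 F k → Commute (torus x y) u → u ∈ fixPos x y := by
  induction m with
  | zero =>
    intro k hk hkm u hu _
    rw [upper_top certG2 (by show 12 ≤ k; omega), Subgroup.mem_bot] at hu
    rw [hu]; exact one_mem _
  | succ m ih =>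
    intro k hk hkm u hu hc
    have hk2 : chevG2.nroots ≤ 2 * k := by show 12 ≤ 2 * k; omega
    obtain ⟨t, b, hb, rfl⟩ := (upper_step certG2 fullCertG2.comm hk2).1 hu
    have hb' : torus x y * b * (torus x y)⁻¹ ∈ upper certG2 F (k + 1) :=
      Cfsg.Lib.ClassSquare.conj_mem_of_normalizer (diag_le_normalizer_upper certG2 _ (torus_mem x y)) hb
    have e : xg certG2 k (chrT x y k * t) * (torus x y * b * (torus x y)⁻¹) = xg certG2 k t * b := by
      rw [← torus_conj' x y (by omega), show torus x y * xg certG2 k t * (torus x y)⁻¹ * (torus x y * b * (torus x y)⁻¹) =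
        torus x y * (xg certG2 k t * b) * (torus x y)⁻¹ by group, hc.eq, mul_inv_cancel_right]
    obtain ⟨e1, e2⟩ := upper_unique certG2 hk2 (show k < 12 by omega) hb' hb e
    refine mul_mem ?_ (ih (by omega) (by omega) hb ?_)
    · by_cases ht : t = 0
      · rw [ht, xg_zero]; exact one_mem _
      · exact Subgroup.subset_closure ⟨k, hk, by omega, (mul_eq_right₀ ht).1 e1, t, rfl⟩
    · rw [mul_inv_eq_iff_eq_mul] at e2
      exact e2

end Normal

section Main

universe v

variable {F : Type v} [Field F] [Fintype F]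

open Cfsg.Lib.ClassSquare.GTwo (torus torus_mem cvec)
open Polynomial

/-- The normal form. -/
theorem normal_form (p : ℕ) [Fact p.Prime] [CharP F p] {g : GL chevG2.Idx F} (hg : g ∈ chevG2.group F) :
    ∃ (L : Type v) (_ : Field L) (_ : Fintype L) (_ : CharP L p) (x y : Lˣ) (u : GL chevG2.Idx L) (n k : ℕ),
      u ∈ fixPos x y ∧ orderOf g = n * p ^ k ∧ n.Coprime p ∧ orderOf (torus x y) = n ∧ orderOf u = p ^ k ∧
      ∃ z ∈ chevG2.group L, z * torus x y * z⁻¹ = torus (x ^ Fintype.card F) (y ^ Fintype.card F) := by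
  classical
  let L := (mat g).charpoly.SplittingField
  haveI : Module.Finite F L := inferInstance
  haveI : Finite L := Module.finite_of_finite F
  letI : Fintype L := Fintype.ofFinite L
  let f := algebraMap F L
  haveI : CharP L p := charP_of_injective_algebraMap f.injective p
  obtain ⟨w, hw, hwB⟩ := exists_conj_borel f p hg (Polynomial.SplittingField.splits _)
  set mgl := Matrix.GeneralLinearGroup.map (n := chevG2.Idx) f with hmgl
  set b := w * mgl g * w⁻¹ with hb
  -- the parts of the order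
  have ho : orderOf b = orderOf g := by
    rw [hb, ← MulAut.conj_apply, MulEquiv.orderOf_eq, hmgl, orderOf_injective _ (map_gl_injective f)]
  have hg0 := (orderOf_pos g).ne'
  set k := (orderOf g).factorization p with hk
  obtain ⟨n, hn⟩ : p ^ k ∣ orderOf g := Nat.ordProj_dvd _ p
  have hn0 : n ≠ 0 := by rintro rfl; exact hg0 (by rw [hn, mul_zero])
  have hpn : ¬ p ∣ n := by
    have : n = orderOf g / p ^ k := by rw [hn, Nat.mul_div_cancel_left _ (pow_pos (Fact.out : p.Prime).pos _)]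
    rw [this]; exact Nat.not_dvd_ordCompl Fact.out hg0
  have hcop : n.Coprime p := ((Fact.out : p.Prime).coprime_iff_not_dvd.2 hpn).symm
  obtain ⟨a, c, hac⟩ : ∃ a c : ℤ, a * n + c * (p ^ k : ℕ) = 1 :=
    ⟨Nat.gcdA n (p ^ k), Nat.gcdB n (p ^ k), by
      have := Nat.gcd_eq_gcd_ab n (p ^ k)
      rw [hcop.pow_right k] at this; push_cast at this ⊢; linarith⟩
  set bs := b ^ (c * (p ^ k : ℕ)) with hbs
  have hbsB : bs ∈ chevG2.borelSubgroup L := Subgroup.zpow_mem _ hwB _
  have hbn : bs ^ n = 1 := by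
    rw [hbs, ← zpow_natCast, ← zpow_mul, show c * ((p ^ k : ℕ) : ℤ) * (n : ℤ) = ((orderOf b : ℕ) : ℤ) * c by
      rw [ho, hn]; push_cast; ring, zpow_mul, zpow_natCast, pow_orderOf_eq_one, one_zpow]
  obtain ⟨z, hz, -, hzT⟩ := conj_into_torus (p := p) (B := chevG2.borelSubgroup L)
    (U := chevG2.posUnipotent L) (T := chevG2.diagonalSubgroup L) (by
      obtain ⟨P, hP⟩ := exists_sylow certG2 (F := L) fullCertG2 p
      exact (hP ▸ P.isPGroup').of_equiv (Subgroup.subgroupOfEquivOfLe (pos_le_group certG2)))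
    (fun _ h => Subgroup.mem_sup_left h) (fun _ h => Subgroup.mem_sup_right h)
    (fun b hb u hu => by
      obtain ⟨v, hv, h, hh, rfl⟩ := (mem_borel certG2).1 hb
      have h1 := Cfsg.Lib.ClassSquare.conj_mem_of_normalizer (diag_le_normalizer certG2 hh) hu
      rw [show v * h * u * (v * h)⁻¹ = v * (h * u * h⁻¹) * v⁻¹ by group]
      exact mul_mem (mul_mem hv h1) (inv_mem hv))
    (fun b hb => (mem_borel certG2).1 hb)
    (fun z h1 h2 => (Subgroup.eq_bot_iff_forall _).1 (pos_inf_diag certG2) z ⟨h1, h2⟩)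
    (fun a ha b hb => diag_comm certG2 ha hb) (orderOf bs) (s := bs) (S := ∅) (Set.empty_subset _) hbsB
    (fun _ h => absurd h (Set.notMem_empty _)) rfl
    (fun h => hpn (h.trans (orderOf_dvd_of_pow_eq_one hbn)))
  obtain ⟨x, y, hxy⟩ := exists_torus hzT
  set bu := b ^ (a * n) with hbu
  set u := z * bu * z⁻¹ with hu
  have hbsu : Commute bs bu := (Commute.refl b).zpow_zpow _ _
  have hprod : b = bu * bs := by rw [hbs, hbu, ← zpow_add, hac, zpow_one]
  have hupk : u ^ (p ^ k) = 1 := by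
    rw [hu, conj_pow, hbu, ← zpow_natCast, ← zpow_mul, show a * (n : ℤ) * ((p ^ k : ℕ) : ℤ) = ((orderOf b : ℕ) : ℤ) * a by
      rw [ho, hn]; push_cast; ring, zpow_mul, zpow_natCast, pow_orderOf_eq_one, one_zpow, mul_one, mul_inv_cancel]
  have hdvd1 : orderOf (torus x y) ∣ n := by
    rw [← hxy, ← MulAut.conj_apply, MulEquiv.orderOf_eq]; exact orderOf_dvd_of_pow_eq_one hbn
  have hdvd2 : orderOf u ∣ p ^ k := orderOf_dvd_of_pow_eq_one hupk
  have hcm : Commute (torus x y) u := by
    rw [← hxy, hu]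
    exact hbsu.map (MulAut.conj z).toMonoidHom
  have hco : (orderOf (torus x y)).Coprime (orderOf u) :=
    ((hcop.pow_right k).coprime_dvd_left hdvd1).coprime_dvd_right hdvd2
  have hobs : orderOf (torus x y * u) = n * p ^ k := by
    rw [hcm.eq, hu, ← hxy, show z * bu * z⁻¹ * (z * bs * z⁻¹) = z * (bu * bs) * z⁻¹ by group, ← hprod,
      ← MulAut.conj_apply, MulEquiv.orderOf_eq, ho, hn, mul_comm]
  have hmul := hcm.orderOf_mul_eq_mul_orderOf_of_coprime hco
  rw [hobs] at hmul
  have hpk : 0 < p ^ k := pow_pos (Fact.out : p.Prime).pos _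
  have e1 : orderOf (torus x y) = n := by
    refine (Nat.le_of_dvd (Nat.pos_of_ne_zero hn0) hdvd1).eq_or_lt.resolve_right fun h => ?_
    have := Nat.le_of_dvd hpk hdvd2
    nlinarith [Nat.mul_le_mul_left (orderOf (torus x y)) this]
  have e2 : orderOf u = p ^ k := by
    rw [e1] at hmul; exact (Nat.eq_of_mul_eq_mul_left (Nat.pos_of_ne_zero hn0) hmul).symm
  -- the unipotent part
  have huB : u ∈ chevG2.borelSubgroup L :=
    mul_mem (mul_mem hz (Subgroup.zpow_mem _ hwB _)) (inv_mem hz)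
  have hupos : u ∈ chevG2.posUnipotent L := by
    obtain ⟨v, hv, h, hh, e⟩ := (mem_borel certG2).1 huB
    have hpow : ∀ j : ℕ, ∃ v' ∈ chevG2.posUnipotent L, u ^ j = v' * h ^ j := by
      intro j
      induction j with
      | zero => exact ⟨1, one_mem _, by simp⟩
      | succ j ih =>
        obtain ⟨v', hv', e'⟩ := ih
        refine ⟨v' * (h ^ j * v * (h ^ j)⁻¹), mul_mem hv'
          (Cfsg.Lib.ClassSquare.conj_mem_of_normalizer (diag_le_normalizer certG2 (pow_mem hh j)) hv), ?_⟩
        rw [pow_succ, pow_succ, e', e]; group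
    obtain ⟨v', hv', e'⟩ := hpow (p ^ k)
    rw [hupk] at e'
    have hh1 : h ^ (p ^ k) = 1 := by
      refine (Subgroup.eq_bot_iff_forall _).1 (pos_inf_diag certG2) _ (Subgroup.mem_inf.2 ⟨?_, pow_mem hh _⟩)
      rw [show h ^ (p ^ k) = v'⁻¹ from eq_inv_of_mul_eq_one_right e'.symm]
      exact inv_mem hv'
    obtain ⟨x', y', rfl⟩ := exists_torus hh
    have : x' = 1 ∧ y' = 1 := by
      have hinj := g2_torus_injective (F := L)
      rw [show torus x' y' = torusHom chevG2 tblG2 L (cvec x' y') from rfl, ← map_pow, ← map_one (torusHom chevG2 tblG2 L)] at hh1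
      have h0 := congrFun (hinj hh1) ⟨0, by decide⟩
      have h1 := congrFun (hinj hh1) ⟨1, by decide⟩
      simp [cvec] at h0 h1
      have key : ∀ u : Lˣ, u ^ (p ^ k) = 1 → u = 1 := fun u hu => Units.ext (by
        have h2 : ((u : L) ^ (p ^ k)) = (1 : L) ^ (p ^ k) := by rw [one_pow, ← Units.val_pow_eq_pow_val, hu, Units.val_one]
        exact iterateFrobenius_inj L p k h2)
      exact ⟨key _ h0, key _ h1⟩
    rw [e, this.1, this.2, Cfsg.Lib.ClassSquare.GTwo.torus_one, mul_one]
    exact hv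
  have hufix : u ∈ fixPos x y := by
    refine mem_fixPos x y 6 (k := 6) le_rfl rfl ?_ hcm
    rw [posUnipotent_eq certG2] at hupos
    exact hupos
  -- the Frobenius map
  obtain ⟨n₀, -, hcard⟩ := FiniteField.card F p
  set σ := iterateFrobenius L p (n₀ : ℕ) with hσ
  have hσf : σ.comp f = f := RingHom.ext fun t => by
    rw [RingHom.comp_apply, hσ, iterateFrobenius_def, ← map_pow, ← hcard, FiniteField.pow_card]
  set mσ := Matrix.GeneralLinearGroup.map (n := chevG2.Idx) σ with hmσ
  have hfix : mσ (mgl g) = mgl g := by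
    refine Units.ext (Matrix.ext fun i j => ?_)
    exact DFunLike.congr_fun hσf ((g : Matrix chevG2.Idx chevG2.Idx F) i j)
  have htor : mσ (torus x y) = torus (x ^ Fintype.card F) (y ^ Fintype.card F) := by
    rw [show torus x y = torusHom chevG2 tblG2 L (cvec x y) from rfl, hmσ, map_torusHom certG2]
    refine congrArg (torusHom chevG2 tblG2 L) (funext fun i => Units.ext ?_)
    simp only [cvec]
    split_ifs <;> simp [hσ, iterateFrobenius_def, hcard]
  refine ⟨L, inferInstance, inferInstance, inferInstance, x, y, u, n, k, hufix, by rw [hn, mul_comm], hcop, e1, e2, ?_⟩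
  have hzG := borel_le_group certG2 hz
  refine ⟨mσ z * mσ w * (z * w)⁻¹, mul_mem (mul_mem (map_group_le certG2 σ hzG) (map_group_le certG2 σ hw))
    (inv_mem (mul_mem hzG hw)), ?_⟩
  rw [← htor, ← hxy, hbs, hb]
  simp only [map_mul, map_inv, map_zpow, hfix, conj_zpow]
  group

end Main

end Cfsg.Lib.Chev.G2Seven
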