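import Cfsg.Agent.Lib.Chev.G2Seven.Rep
import Cfsg.Agent.Lib.ClassSquare.G2Levi
import Cfsg.Agent.Lib.Chev.G2Cent

/-!
The module of dimension seven: the torus, the Weyl elements, the quadratic form and the stabiliser of the standard
flag.
-/

set_option autoImplicit false
set_option maxRecDepth 100000

namespace Cfsg.Lib.Chev.G2Seven

open Cfsg.Lie Cfsg.Lib.Chev
open Cfsg.Lib.ClassSquare.GTwo (torus torus_mem torus_mul hg_seven hg_six)
open scoped Matrix

variable {F : Type*} [Field F] [Finite F]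

/-- The representation. -/
noncomputable def rho (F : Type*) [Field F] [Finite F] : ↥(chevG2.group F) →* GL (Fin 7) F :=
  (exists_rho F).choose

open Classical in
/-- The matrix of an element of the group. -/
noncomputable def mat (g : GL chevG2.Idx F) : Matrix (Fin 7) (Fin 7) F :=
  if hg : g ∈ chevG2.group F then (rho F ⟨g, hg⟩ : GL (Fin 7) F).1 else 1

theorem mat_eq {g : GL chevG2.Idx F} (hg : g ∈ chevG2.group F) :
    mat g = (rho F ⟨g, hg⟩ : GL (Fin 7) F).1 := dif_pos hg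

theorem mat_xg {r : ℕ} (hr : r < 12) (t : F) : mat (xg certG2 r t) = x7M r t := by
  rw [mat_eq (xg_mem_group certG2 r t)]
  exact (exists_rho F).choose_spec r hr t

theorem mat_one : mat (1 : GL chevG2.Idx F) = 1 := by
  rw [mat_eq (one_mem _), show (⟨1, one_mem _⟩ : ↥(chevG2.group F)) = 1 from rfl, map_one]; rfl

theorem mat_mul {g h : GL chevG2.Idx F} (hg : g ∈ chevG2.group F) (hh : h ∈ chevG2.group F) :
    mat (g * h) = mat g * mat h := by
  rw [mat_eq (mul_mem hg hh), mat_eq hg, mat_eq hh, ← Units.val_mul, ← map_mul]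
  rfl

theorem mat_pow {g : GL chevG2.Idx F} (hg : g ∈ chevG2.group F) : ∀ n : ℕ, mat (g ^ n) = mat g ^ n
  | 0 => by simp [mat_one]
  | n + 1 => by rw [pow_succ, pow_succ, mat_mul (pow_mem hg n) hg, mat_pow hg n]

theorem mat_isUnit {g : GL chevG2.Idx F} (hg : g ∈ chevG2.group F) : IsUnit (mat g) := by
  rw [mat_eq hg]; exact (rho F ⟨g, hg⟩).isUnit

/-! ### Weyl elements -/

/-- The word of a Weyl element. -/
def ngP (r : ℕ) : List Mon :=
  redP (prodP [px r 1 1 0, px (tblG2.neg r) 1 0 1, px r 1 1 0])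

/-- The word of a Weyl element at minus one. -/
def ngP' (r : ℕ) : List Mon := prodP [px r (-1) 0 0, px (tblG2.neg r) 1 0 0, px r (-1) 0 0]

theorem mat_ng {r : ℕ} (hr : r < 12) (hn : tblG2.neg r < 12) {v : F} (hv : v ≠ 0) :
    mat (ng certG2 r v) = evalP v (-v⁻¹) (ngP r) := by
  rw [ngP, evalP_redP _ _ (by rw [mul_neg, mul_inv_cancel₀ hv]), evalP_prodP, ng,
    certG2.spec.shape.neg_eq r hr, mat_mul (mul_mem (xg_mem_group certG2 _ _) (xg_mem_group certG2 _ _))
    (xg_mem_group certG2 _ _), mat_mul (xg_mem_group certG2 _ _) (xg_mem_group certG2 _ _), mat_xg hr, mat_xg hn]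
  simp [evalP_px, mul_assoc]

/-- The Weyl elements. -/
def ngV : ℕ → List Mon
  | 7 => [((0, 1, 1, 0), 1), ((1, 0, 0, 1), 1), ((2, 4, 2, 0), 1), ((3, 3, 0, 0), -1), ((4, 2, 0, 2), 1),
    ((5, 6, 1, 0), 1), ((6, 5, 0, 1), 1)]
  | _ => [((0, 0, 0, 0), 1), ((1, 2, 1, 0), 1), ((2, 1, 0, 1), 1), ((3, 3, 0, 0), 1), ((4, 5, 1, 0), 1),
    ((5, 4, 0, 1), 1), ((6, 6, 0, 0), 1)]

/-- The Weyl elements at minus one. -/
def ngV' : ℕ → List Mon
  | 7 => [((0, 1, 0, 0), -1), ((1, 0, 0, 0), 1), ((2, 4, 0, 0), 1), ((3, 3, 0, 0), -1), ((4, 2, 0, 0), 1),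
    ((5, 6, 0, 0), -1), ((6, 5, 0, 0), 1)]
  | _ => [((0, 0, 0, 0), 1), ((1, 2, 0, 0), -1), ((2, 1, 0, 0), 1), ((3, 3, 0, 0), 1), ((4, 5, 0, 0), -1),
    ((5, 4, 0, 0), 1), ((6, 6, 0, 0), 1)]

theorem chkV_ok : (eqP (ngP 7) (ngV 7) && eqP (ngP' 7) (ngV' 7) && eqP (ngP 6) (ngV 6) && eqP (ngP' 6) (ngV' 6)) = true := by
  decide +kernel

theorem evalP_ngV {r : ℕ} (hr : r = 7 ∨ r = 6) (t u : F) :
    evalP t u (ngP r) = evalP t u (ngV r) ∧ evalP t u (ngP' r) = evalP t u (ngV' r) := by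
  have h := chkV_ok
  simp only [Bool.and_eq_true] at h
  rcases hr with rfl | rfl
  · exact ⟨evalP_eqP _ _ h.1.1.1, evalP_eqP _ _ h.1.1.2⟩
  · exact ⟨evalP_eqP _ _ h.1.2, evalP_eqP _ _ h.2⟩

/-- The weights of the coordinates on the coroot of a fundamental root. -/
def wts : ℕ → Fin 7 → ℤ
  | 7 => ![1, -1, 2, 0, -2, 1, -1]
  | _ => ![0, 1, -1, 0, 1, -1, 0]

/-- A diagonal matrix of powers. -/
def diagP (r : ℕ) : List Mon :=
  (List.finRange 7).map fun i =>
    if 0 ≤ wts r i then ((i, i, (wts r i).toNat, 0), 1) else ((i, i, 0, (-wts r i).toNat), (-1) ^ (-wts r i).toNat)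

theorem chkH_ok : eqP (redP (mulP (ngV 7) (ngV' 7))) (diagP 7) = true ∧
    eqP (redP (mulP (ngV 6) (ngV' 6))) (diagP 6) = true := by decide +kernel

theorem evalP_diagP {v : F} (hv : v ≠ 0) (r : ℕ) :
    evalP v (-v⁻¹) (diagP r) = Matrix.diagonal fun i => v ^ wts r i := by
  rw [evalP, diagP, List.map_map, ← List.sum_toFinset _ (List.nodup_finRange 7)]
  ext i j
  rw [Matrix.sum_apply, Finset.sum_eq_single i]
  · rcases le_or_gt 0 (wts r i) with h | h
    · obtain ⟨n, hn⟩ := Int.eq_ofNat_of_zero_le h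
      simp [evalMon, Matrix.single_apply, Matrix.diagonal_apply, hn]
    · obtain ⟨n, hn⟩ : ∃ n : ℕ, wts r i = -(n : ℤ) := ⟨(-wts r i).toNat, by omega⟩
      have h0 : n ≠ 0 := by omega
      simp [evalMon, Matrix.single_apply, Matrix.diagonal_apply, hn, h0, ← mul_pow]
  · intro b _ hb
    rcases le_or_gt 0 (wts r b) with h | h
    · simp [evalMon, Matrix.single_apply, h, hb]
    · simp [evalMon, Matrix.single_apply, not_le.2 h, hb]
  · intro h; exact absurd (List.mem_toFinset.2 (List.mem_finRange i)) h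

theorem mat_hg {r : ℕ} (hr : r = 7 ∨ r = 6) {v : F} (hv : v ≠ 0) :
    mat (hg certG2 r v) = Matrix.diagonal fun i => v ^ wts r i := by
  have hr' : r < 12 ∧ tblG2.neg r < 12 := by rcases hr with rfl | rfl <;> decide
  have h1 : ∀ w : F, ng certG2 r w ∈ chevG2.group F := fun w => ng_mem_group certG2 r w
  have h2 : mat (ng certG2 r (-1 : F)) = evalP v (-v⁻¹) (ngP' r) := by
    rw [ng, certG2.spec.shape.neg_eq r hr'.1, mat_mul (mul_mem (xg_mem_group certG2 _ _) (xg_mem_group certG2 _ _))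
      (xg_mem_group certG2 _ _), mat_mul (xg_mem_group certG2 _ _) (xg_mem_group certG2 _ _), mat_xg hr'.1,
      mat_xg hr'.2, ngP', evalP_prodP]
    simp [evalP_px, mul_assoc]
  rw [hg, mat_mul (h1 _) (h1 _), mat_ng hr'.1 hr'.2 hv, h2, (evalP_ngV hr _ _).1, (evalP_ngV hr _ _).2, ← evalP_mulP,
    ← evalP_redP _ _ (by rw [mul_neg, mul_inv_cancel₀ hv]), ← evalP_diagP hv]
  rcases hr with rfl | rfl
  · exact evalP_eqP _ _ chkH_ok.1
  · exact evalP_eqP _ _ chkH_ok.2

/-- The eigenvalues of a torus element. -/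
def dgv (x y : F) : Fin 7 → F := ![x, y / x, x ^ 2 / y, 1, y / x ^ 2, x / y, x⁻¹]

theorem mat_torus (x y : Fˣ) : mat (torus x y) = Matrix.diagonal (dgv (x : F) y) := by
  rw [show torus x y = hg certG2 7 (x : F) * hg certG2 6 (y : F) by rw [hg_seven, hg_six, torus_mul, mul_one, one_mul],
    mat_mul (by rw [hg]; exact mul_mem (ng_mem_group certG2 _ _) (ng_mem_group certG2 _ _))
      (by rw [hg]; exact mul_mem (ng_mem_group certG2 _ _) (ng_mem_group certG2 _ _)),
    mat_hg (Or.inl rfl) x.ne_zero, mat_hg (Or.inr rfl) y.ne_zero, Matrix.diagonal_mul_diagonal]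
  congr 1
  funext i
  fin_cases i <;> simp [wts, dgv, zpow_ofNat, zpow_neg, div_eq_mul_inv, mul_comm]

/-- The permutations of the coordinates. -/
def piN : ℕ → Fin 7 → Fin 7
  | 0 => ![1, 0, 4, 3, 2, 6, 5]
  | _ => ![0, 2, 1, 3, 5, 4, 6]

/-- The signs. -/
def sgnN (i : ℕ) (j : Fin 7) : ℤ :=
  (((ngV (tblG2.simp' i)).filter fun p => decide (p.1.1 = piN i j ∧ p.1.2.1 = j)).map fun p =>
    p.2 * (-1) ^ p.1.2.2.2).sum

/-- The matrix of a fundamental reflection. -/
def nuP (i : ℕ) : List Mon := (List.finRange 7).map fun j => ((piN i j, j, 0, 0), sgnN i j)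

/-- The substitution by one. -/
def oneSub (l : List Mon) : List Mon := l.map fun p => ((p.1.1, p.1.2.1, 0, 0), p.2 * (-1) ^ p.1.2.2.2)

theorem chkNu_ok : ∀ i < 2, eqP (oneSub (ngV (tblG2.simp' i))) (nuP i) = true ∧
    (∀ j, sgnN i j = 1 ∨ sgnN i j = -1) ∧ tblG2.simp' i < 12 ∧ tblG2.neg (tblG2.simp' i) < 12 := by decide +kernel

theorem evalP_oneSub : ∀ l : List Mon, evalP (1 : F) (-(1 : F)⁻¹) (oneSub l) = evalP (1 : F) (-(1 : F)⁻¹) l
  | [] => rfl
  | p :: l => by
    rw [oneSub, List.map_cons, ← oneSub, evalP_cons, evalP_cons, evalP_oneSub l]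
    congr 1
    simp [evalMon]

theorem mat_nu {i : ℕ} (hi : i < 2) (j : Fin 7) :
    mat (nu certG2 i : GL chevG2.Idx F) *ᵥ Pi.single j 1 = (sgnN i j : F) • Pi.single (piN i j) 1 := by
  obtain ⟨h1, -, hr, hn⟩ := chkNu_ok i hi
  have h76 : tblG2.simp' i = 7 ∨ tblG2.simp' i = 6 := by interval_cases i <;> decide +kernel
  rw [nu, mat_ng hr hn one_ne_zero, (evalP_ngV h76 _ _).1, ← evalP_oneSub, evalP_eqP _ _ h1, evalP, nuP, List.map_map,
    ← List.sum_toFinset _ (List.nodup_finRange 7), Matrix.sum_mulVec, Finset.sum_eq_single j]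
  · ext k
    simp [evalMon, Matrix.mulVec, dotProduct, Matrix.single_apply, Pi.single_apply, eq_comm]
  · intro b _ hb
    ext k
    simp [evalMon, Matrix.mulVec, dotProduct, Matrix.single_apply, Pi.single_apply, hb]
  · intro h; exact absurd (List.mem_toFinset.2 (List.mem_finRange j)) h

/-- The permutation of a word. -/
def piW (w : List ℕ) (j : Fin 7) : Fin 7 := w.foldr piN j

/-- The sign of a word. -/
def sgnP : List ℕ → Fin 7 → ℤ
  | [], _ => 1
  | i :: w, j => sgnN i (piW w j) * sgnP w j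

theorem mat_wnu : ∀ {w : List ℕ}, IsWord chevG2 w → ∀ j : Fin 7,
    mat (wnu certG2 F w) *ᵥ Pi.single j 1 = (sgnP w j : F) • Pi.single (piW w j) 1 ∧ (sgnP w j : F) ≠ 0 := by
  intro w
  induction w with
  | nil =>
    intro _ j
    simp [wnu, mat_one, sgnP, piW, Matrix.one_mulVec]
    try (ext k; simp [Matrix.one_apply, Pi.single_apply])
  | cons i w ih =>
    intro hw j
    obtain ⟨e, hne⟩ := ih hw.tail.2 j
    have hi : i < 2 := hw.tail.1
    refine ⟨?_, ?_⟩
    · rw [wnu_cons, mat_mul (wnu_mem_group certG2 (w := [i]) (fun k hk => by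
        rw [List.mem_singleton.1 hk]; exact hi) |> (by simpa [wnu] using ·)) (wnu_mem_group certG2 hw.tail.2),
        ← Matrix.mulVec_mulVec, e, Matrix.mulVec_smul, mat_nu hi, smul_smul]
      simp [sgnP, piW, mul_comm]
    · rw [sgnP, Int.cast_mul]
      refine mul_ne_zero ?_ hne
      rcases (chkNu_ok i hi).2.1 (piW w j) with h | h <;> simp [h]

/-- The short root of a coordinate. -/
def rootOf : Fin 7 → ℕ := ![9, 8, 7, 12, 4, 3, 2]

theorem chkRootOf : ∀ i < 2, ∀ j : Fin 7, j ≠ 3 →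
    piN i j ≠ 3 ∧ rootOf (piN i j) = tblG2.refl' i (rootOf j) := by decide +kernel

theorem rootOf_piW : ∀ {w : List ℕ}, IsWord chevG2 w → ∀ j : Fin 7, j ≠ 3 →
    piW w j ≠ 3 ∧ rootOf (piW w j) = wperm tblG2 w (rootOf j) := by
  intro w
  induction w with
  | nil => intro _ j hj; exact ⟨hj, rfl⟩
  | cons i w ih =>
    intro hw j hj
    obtain ⟨h1, h2⟩ := ih hw.tail.2 j hj
    obtain ⟨h3, h4⟩ := chkRootOf i hw.tail.1 _ h1
    exact ⟨h3, h4.trans (by rw [h2]; rfl)⟩

theorem piW_injective : ∀ {w : List ℕ}, IsWord chevG2 w → Function.Injective (piW w) := by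
  intro w
  induction w with
  | nil => intro _; exact fun a b h => h
  | cons i w ih =>
    intro hw a b h
    exact ih hw.tail.2 ((show Function.Injective (piN i) by
      have hi : i < 2 := hw.tail.1
      interval_cases i <;> decide) h)

/-! ### The flag -/

/-- Upper triangular. -/
def Upper (M : Matrix (Fin 7) (Fin 7) F) : Prop := ∀ i j, j < i → M i j = 0

theorem chk_upper : ∀ r < 12, 6 ≤ r → ∀ e ∈ rootTerms r, (e.1 : Fin 7) < e.2.1 := by decide +kernel

theorem upper_xg {r : ℕ} (hr : r < 12) (hp : 6 ≤ r) (t : F) : Upper (mat (xg certG2 r t)) := by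
  intro i j hij
  rw [mat_xg hr, x7M, px, evalP_append, evalP_oneP, evalP_terms, Matrix.add_apply, Matrix.one_apply_ne hij.ne',
    zero_add]
  generalize hl : rootTerms r = l
  have hlt : ∀ e ∈ l, (e.1 : Fin 7) < e.2.1 := hl ▸ chk_upper r hr hp
  clear hl
  induction l with
  | nil => rfl
  | cons e l ih =>
    rw [List.map_cons, List.sum_cons, Matrix.add_apply, ih fun e' he => hlt e' (List.mem_cons_of_mem _ he), add_zero,
      Matrix.single_apply, if_neg]
    rintro ⟨rfl, rfl⟩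
    exact absurd hij (not_lt.2 (hlt e List.mem_cons_self).le)

theorem upper_of_borel {b : GL chevG2.Idx F} (hb : b ∈ chevG2.borelSubgroup F) : Upper (mat b) := by
  have hG := borel_le_group certG2 (F := F)
  rw [mem_borel certG2] at hb
  obtain ⟨u, hu, h, hh, rfl⟩ := hb
  have hmul : ∀ {A B : Matrix (Fin 7) (Fin 7) F}, Upper A → Upper B → Upper (A * B) := fun hA hB i j hij => by
    rw [Matrix.mul_apply]
    refine Finset.sum_eq_zero fun k _ => ?_
    rcases lt_or_ge k i with h | h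
    · rw [hA i k h, zero_mul]
    · rw [hB k j (lt_of_lt_of_le hij h), mul_zero]
  have hpos : u ∈ chevG2.group F ∧ Upper (mat u) := by
    have hu' := hu
    rw [ChevalleyDatum.posUnipotent, ← Subgroup.mem_toSubmonoid, Subgroup.closure_toSubmonoid] at hu'
    refine Submonoid.closure_induction (motive := fun x _ => x ∈ chevG2.group F ∧ Upper (mat x)) ?_ ?_ ?_ hu'
    · rintro x (⟨r, t, hr, e⟩ | hx)
      · rw [eq_xg certG2 e]
        have hp := (certG2.isPos_iff hr.1).1 hr
        exact ⟨xg_mem_group certG2 _ _, upper_xg hr.1 (by simp [show chevG2.nroots = 12 from rfl] at hp; omega) _⟩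
      · obtain ⟨r, t, hr, e⟩ := Set.mem_inv.1 hx
        rw [show x = xg certG2 r (-t) by rw [← inv_inv x, eq_xg certG2 e, xg_inv]]
        have hp := (certG2.isPos_iff hr.1).1 hr
        exact ⟨xg_mem_group certG2 _ _, upper_xg hr.1 (by simp [show chevG2.nroots = 12 from rfl] at hp; omega) _⟩
    · exact ⟨one_mem _, by rw [mat_one]; exact fun i j hij => Matrix.one_apply_ne hij.ne'⟩
    · exact fun x y _ _ hx hy => ⟨mul_mem hx.1 hy.1, by rw [mat_mul hx.1 hy.1]; exact hmul hx.2 hy.2⟩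
  have hd : Upper (mat h) := by
    rw [← torusHom_range certG2] at hh
    obtain ⟨c, rfl⟩ := hh
    rw [show torusHom chevG2 tblG2 F c = torus (c ⟨0, by decide⟩) (c ⟨1, by decide⟩) from
      congrArg (torusHom chevG2 tblG2 F) (funext fun i => by
        have h2 : (i : ℕ) < 2 := i.2
        unfold Cfsg.Lib.ClassSquare.GTwo.cvec
        split_ifs with h
        · exact congrArg c (Fin.ext h)
        · exact congrArg c (Fin.ext (show (i : ℕ) = 1 by omega))), mat_torus]
    exact fun i j hij => Matrix.diagonal_apply_ne _ hij.ne'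
  rw [mat_mul hpos.1 (hG (Subgroup.mem_sup_right hh))]
  exact hmul hpos.2 hd

theorem diag_ne_zero {M : Matrix (Fin 7) (Fin 7) F} (hM : Upper M) (hu : IsUnit M) (i : Fin 7) : M i i ≠ 0 := by
  have hd := (Matrix.isUnit_iff_isUnit_det M).1 hu
  rw [Matrix.det_of_upperTriangular (fun a b h => hM a b h)] at hd
  exact Finset.prod_ne_zero_iff.1 hd.ne_zero i (Finset.mem_univ i)

theorem chk_flag : ∀ p ∈ gtPerms, p.getD 3 0 = 9 → p.getD 2 0 = 8 → p = [6, 7, 8, 9, 10, 11] := by decide +kernel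

/-- An element fixing the first two steps of the flag lies in the Borel subgroup. -/
theorem mem_borel_of_flag {g : GL chevG2.Idx F} (hg : g ∈ chevG2.group F)
    (h0 : ∀ k : Fin 7, k ≠ 0 → mat g k 0 = 0) (h1 : ∀ k : Fin 7, 1 < k → mat g k 1 = 0) :
    g ∈ chevG2.borelSubgroup F := by
  obtain ⟨w, hw, b, hb, c, hc, rfl⟩ := bruhat_normal certG2 fullCertG2 hg
  have hcB := signPart_le_borel certG2 fullCertG2 w true hc
  have hG := borel_le_group certG2 (F := F)
  set A := mat b with hA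
  set N := mat (wnu certG2 F w)
  set C' := mat c
  have hAu : Upper A := upper_of_borel hb
  have hCu : Upper C' := upper_of_borel hcB
  have hM : mat (b * wnu certG2 F w * c) = A * N * C' := by
    rw [mat_mul (mul_mem (hG hb) (wnu_mem_group certG2 hw)) (hG hcB), mat_mul (hG hb) (wnu_mem_group certG2 hw)]
  rw [hM] at h0 h1
  have hN : ∀ k j, (A * N) k j = (sgnP w j : F) * A k (piW w j) := fun k j => by
    have e := (mat_wnu (F := F) hw j).1
    have e1 : (A * N) k j = ((A * N) *ᵥ Pi.single j 1) k := by simp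
    rw [e1, ← Matrix.mulVec_mulVec, e, Matrix.mulVec_smul]
    simp
  have hcol0 : ∀ k, (A * N * C') k 0 = (sgnP w 0 : F) * A k (piW w 0) * C' 0 0 := fun k => by
    rw [Matrix.mul_apply, Finset.sum_eq_single (0 : Fin 7)]
    · rw [hN]
    · intro j _ hj
      rw [hCu j 0 (Fin.pos_iff_ne_zero.2 hj), mul_zero]
    · intro h; exact absurd (Finset.mem_univ _) h
  have hA0 := diag_ne_zero hAu (mat_isUnit (hG hb))
  have hC0 := diag_ne_zero hCu (mat_isUnit (hG hcB))
  have hp0 : piW w 0 = 0 := by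
    by_contra hne
    have := h0 _ hne
    rw [hcol0] at this
    exact mul_ne_zero (mul_ne_zero (mat_wnu (F := F) hw 0).2 (hA0 _)) (hC0 0) this
  have hp1 : piW w 1 = 1 := by
    by_contra hne
    have hk : (1 : Fin 7) < piW w 1 := by
      have : piW w 1 ≠ 0 := fun e => by
        have := piW_injective hw (e.trans hp0.symm)
        exact absurd this (by decide)
      revert this hne
      generalize piW w 1 = k
      revert k; decide
    have := h1 _ hk
    rw [Matrix.mul_apply, Finset.sum_eq_single (1 : Fin 7)] at this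
    · rw [hN] at this
      exact mul_ne_zero (mul_ne_zero (mat_wnu (F := F) hw 1).2 (hA0 _)) (hC0 1) this
    · intro j _ hj
      rcases lt_or_gt_of_ne hj with h | h
      · obtain rfl : j = 0 := by revert h; revert j; decide
        rw [hN, hp0, hAu _ 0 (lt_trans (by decide) hk), mul_zero, zero_mul]
      · rw [hCu j 1 h, mul_zero]
    · intro h; exact absurd (Finset.mem_univ _) h
  have h9 : wperm tblG2 w 9 = 9 := by
    have := (rootOf_piW hw 0 (by decide)).2
    rw [hp0] at this; exact this.symm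
  have h8 : wperm tblG2 w 8 = 8 := by
    have := (rootOf_piW hw 1 (by decide)).2
    rw [hp1] at this; exact this.symm
  have hall := chk_flag _ (gtPerms_closed w hw) (by simp [h9]) (by simp [h8])
  simp only [List.map_cons, List.map_nil, List.cons.injEq] at hall
  have hd := same_of_perm certG2 (F := F) fullCertG2 (v := []) (w := w) (fun k hk => absurd hk List.not_mem_nil) hw (fun k hk => by
    have hk' : k < 2 := hk
    interval_cases k
    · rw [show tblG2.simp' 0 = 7 by decide +kernel, hall.2.1]; rfl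
    · rw [show tblG2.simp' 1 = 6 by decide +kernel, hall.1]; rfl)
  simp only [wnu, List.map_nil, List.prod_nil, inv_one, one_mul] at hd
  exact mul_mem (mul_mem hb (Subgroup.mem_sup_right hd)) hcB

/-! ### The quadratic form -/

/-- The invariant quadratic form. -/
def Q7 (v : Fin 7 → F) : F := v 0 * v 6 - v 1 * v 5 + v 2 * v 4 - v 3 * v 3

/-- The matrix of the form. -/
def formU : List Mon :=
  [((0, 6, 0, 0), 1), ((1, 5, 0, 0), -1), ((2, 4, 0, 0), 1), ((3, 3, 0, 0), -1)]

/-- The transpose. -/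
def trP (l : List Mon) : List Mon := l.map fun p => ((p.1.2.1, p.1.1, p.1.2.2), p.2)

/-- The part above the diagonal of the change of the form. -/
def chgUp (r : ℕ) : List Mon :=
  (mulP (trP (px r 1 1 0)) (mulP formU (px r 1 1 0)) ++ negP formU).filter fun p => decide (p.1.1 < p.1.2.1)

theorem chkForm_ok : ∀ r < 12,
    eqP (mulP (trP (px r 1 1 0)) (mulP formU (px r 1 1 0)) ++ negP formU) (chgUp r ++ negP (trP (chgUp r))) = true := by
  decide +kernel

omit [Finite F] in
theorem evalP_trP (t u : F) : ∀ l : List Mon, evalP t u (trP l) = (evalP t u l)ᵀ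
  | [] => by simp [trP, evalP_nil]
  | p :: l => by
    rw [trP, List.map_cons, ← trP, evalP_cons, evalP_trP t u l, evalP_cons, Matrix.transpose_add]
    congr 1
    simp [evalMon]

omit [Finite F] in
theorem form_eq (t u : F) (v : Fin 7 → F) : v ⬝ᵥ (evalP t u formU *ᵥ v) = Q7 v := by
  simp [formU, evalP, evalMon, dotProduct, Matrix.mulVec, Fin.sum_univ_seven, Matrix.single_apply, Q7]
  ring

omit [Finite F] in
theorem Q7_x7M {r : ℕ} (hr : r < 12) (t : F) (v : Fin 7 → F) : Q7 (x7M r t *ᵥ v) = Q7 v := by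
  have e := evalP_eqP t 0 (chkForm_ok r hr)
  simp only [evalP_append, evalP_negP, evalP_trP, evalP_mulP, evalP_px, Int.cast_one, one_mul, pow_one, pow_zero,
    mul_one] at e
  rw [← form_eq t 0 v, ← form_eq t 0 (x7M r t *ᵥ v)]
  set M := x7M r t
  set U := evalP t 0 formU
  set S := evalP t 0 (chgUp r)
  have hS : v ⬝ᵥ ((S + -Sᵀ) *ᵥ v) = 0 := by
    rw [← sub_eq_add_neg, Matrix.sub_mulVec, dotProduct_sub, Matrix.mulVec_transpose, dotProduct_comm v (v ᵥ* S),
      ← Matrix.dotProduct_mulVec, sub_self]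
  rw [← e, Matrix.add_mulVec, dotProduct_add, Matrix.neg_mulVec, dotProduct_neg, ← sub_eq_add_neg, sub_eq_zero] at hS
  rw [← hS, ← Matrix.mulVec_mulVec, ← Matrix.mulVec_mulVec, Matrix.dotProduct_mulVec v Mᵀ, Matrix.vecMul_transpose]

theorem Q7_mat {g : GL chevG2.Idx F} (hg : g ∈ chevG2.group F) (v : Fin 7 → F) : Q7 (mat g *ᵥ v) = Q7 v := by
  suffices h : g ∈ chevG2.group F ∧ ∀ v, Q7 (mat g *ᵥ v) = Q7 v from h.2 v
  have hg' := hg
  rw [ChevalleyDatum.group, ← Subgroup.mem_toSubmonoid, Subgroup.closure_toSubmonoid] at hg'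
  refine Submonoid.closure_induction (motive := fun x _ => x ∈ chevG2.group F ∧ ∀ v, Q7 (mat x *ᵥ v) = Q7 v)
    ?_ ?_ ?_ hg'
  · intro x hx
    obtain ⟨r, hr, t, rfl⟩ : ∃ r, r < 12 ∧ ∃ t, x = xg certG2 r t := by
      rcases hx with ⟨r, t, e⟩ | hx
      · exact ⟨r, r.2, t, eq_xg certG2 (e.trans (by rw [ChevalleyDatum.x, dif_pos r.2]))⟩
      · obtain ⟨r, t, e⟩ := Set.mem_inv.1 hx
        refine ⟨r, r.2, -t, ?_⟩
        rw [← inv_inv x, eq_xg certG2 (r := (r : ℕ)) (t := t) (e.trans (by rw [ChevalleyDatum.x, dif_pos r.2])),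
          xg_inv]
    exact ⟨xg_mem_group certG2 _ _, fun v => by rw [mat_xg hr]; exact Q7_x7M hr t v⟩
  · exact ⟨one_mem _, fun v => by rw [mat_one, Matrix.one_mulVec]⟩
  · exact fun x y _ _ hx hy => ⟨mul_mem hx.1 hy.1, fun v => by
      rw [mat_mul hx.1 hy.1, ← Matrix.mulVec_mulVec, hx.2, hy.2]⟩

end Cfsg.Lib.Chev.G2Seven
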