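import Cfsg.Agent.Lib.Chev.G2Seven.Module

/-!
The group moves every singular vector to a multiple of the first basis vector; stabilisers of lines and planes.
-/

set_option autoImplicit false
set_option maxRecDepth 100000

namespace Cfsg.Lib.Chev.G2Seven

open Cfsg.Lie Cfsg.Lib.Chev
open scoped Matrix

variable {F : Type*} [Field F] [Finite F]

omit [Finite F] in
theorem mulVec_eq (r : ℕ) (t : F) (v : Fin 7 → F) :
    x7M r t *ᵥ v = v + ((rootTerms r).map fun e =>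
      Pi.single e.1 ((e.2.2.2 : F) * t ^ e.2.2.1 * v e.2.1)).sum := by
  rw [x7M, px, evalP_append, evalP_oneP, evalP_terms, Matrix.add_mulVec, Matrix.one_mulVec]
  congr 1
  induction rootTerms r with
  | nil => simp
  | cons e l ih =>
    rw [List.map_cons, List.sum_cons, Matrix.add_mulVec, ih, List.map_cons, List.sum_cons]
    congr 1
    ext k
    simp [Matrix.mulVec, dotProduct, Matrix.single_apply, Pi.single_apply, eq_comm]
    by_cases h : k = e.1 <;> simp [h]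

/-- A product of moves. -/
theorem moves_wnu {w : List ℕ} (hw : IsWord chevG2 w) (v : Fin 7 → F) (j : Fin 7) :
    (mat (wnu certG2 F w) *ᵥ v) (piW w j) = (sgnP w j : F) * v j := by
  conv_lhs => rw [show v = ∑ i, v i • Pi.single i (1 : F) by ext k; simp [Pi.single_apply]]
  rw [Matrix.mulVec_sum, Finset.sum_apply, Finset.sum_eq_single j]
  · rw [Matrix.mulVec_smul, (mat_wnu hw j).1]; simp [mul_comm]
  · intro i _ hi
    rw [Matrix.mulVec_smul, (mat_wnu hw i).1]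
    simp [(piW_injective hw).ne hi.symm]
  · intro h; exact absurd (Finset.mem_univ _) h

/-- The word bringing a coordinate to the last one. -/
def wordTo : Fin 7 → List ℕ := ![[0, 1, 0, 1, 0], [0, 1, 0, 1], [0, 1, 0], [], [0, 1], [0], []]

theorem chkWordTo : ∀ j : Fin 7, j ≠ 3 → (∀ i ∈ wordTo j, i < 2) ∧ piW (wordTo j) j = 6 := by decide +kernel

theorem chkTop : piW [0, 1, 0, 1, 0, 1] 6 = 0 := by decide +kernel

/-- Singular vectors are moved to the first line. -/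
theorem exists_move {v : Fin 7 → F} (hv : v ≠ 0) (hQ : Q7 v = 0) :
    ∃ g ∈ chevG2.group F, ∀ k : Fin 7, k ≠ 0 → (mat g *ᵥ v) k = 0 := by
  obtain ⟨j, hj3, hj⟩ : ∃ j : Fin 7, j ≠ 3 ∧ v j ≠ 0 := by
    by_contra h
    push Not at h
    refine hv (funext fun k => ?_)
    rcases eq_or_ne k 3 with rfl | hk
    · simpa [Q7, h 0 (by decide), h 1 (by decide), h 2 (by decide), h 4 (by decide), h 5 (by decide), h 6 (by decide)]
        using hQ
    · exact h k hk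
  obtain ⟨hw, hwj⟩ := chkWordTo j hj3
  have hg₁ := wnu_mem_group certG2 (F := F) (w := wordTo j) hw
  set v1 := mat (wnu certG2 F (wordTo j)) *ᵥ v with hv1
  have h6 : v1 6 ≠ 0 := by
    rw [hv1, ← hwj, moves_wnu hw]
    exact mul_ne_zero (mat_wnu (F := F) hw j).2 hj
  have step : ∀ r < 12, ∀ t : F, ∀ u : Fin 7 → F, ∀ g ∈ chevG2.group F, mat g *ᵥ v1 = u →
      xg certG2 r t * g ∈ chevG2.group F ∧ mat (xg certG2 r t * g) *ᵥ v1 = x7M r t *ᵥ u := fun r hr t u g hg e =>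
    ⟨mul_mem (xg_mem_group certG2 r t) hg, by
      rw [mat_mul (xg_mem_group certG2 r t) hg, mat_xg hr, ← Matrix.mulVec_mulVec, e]⟩
  set u0 := v1
  obtain ⟨hm1, he1⟩ := step 7 (by decide) (-(u0 5) / u0 6) u0 1 (one_mem _) (by rw [mat_one, Matrix.one_mulVec])
  set u1 := x7M 7 (-(u0 5) / u0 6) *ᵥ u0 with hu1
  obtain ⟨hm2, he2⟩ := step 8 (by decide) (-(u1 4) / u1 6) u1 _ hm1 he1
  set u2 := x7M 8 (-(u1 4) / u1 6) *ᵥ u1 with hu2
  obtain ⟨hm3, he3⟩ := step 9 (by decide) (u2 3 / u2 6) u2 _ hm2 he2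
  set u3 := x7M 9 (u2 3 / u2 6) *ᵥ u2 with hu3
  obtain ⟨hm4, he4⟩ := step 10 (by decide) (u3 2 / u3 6) u3 _ hm3 he3
  set u4 := x7M 10 (u3 2 / u3 6) *ᵥ u3 with hu4
  obtain ⟨hm5, he5⟩ := step 11 (by decide) (u4 1 / u4 6) u4 _ hm4 he4
  set u5 := x7M 11 (u4 1 / u4 6) *ᵥ u4 with hu5
  have a1 : u1 6 = u0 6 ∧ u1 5 = 0 := by
    rw [hu1, mulVec_eq]
    constructor <;> simp [rootTerms, h6]
  have a2 : u2 6 = u0 6 ∧ u2 5 = 0 ∧ u2 4 = 0 := by
    rw [hu2, mulVec_eq]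
    refine ⟨?_, ?_, ?_⟩ <;> simp [rootTerms, a1.1, a1.2, h6]
  have a3 : u3 6 = u0 6 ∧ u3 5 = 0 ∧ u3 4 = 0 ∧ u3 3 = 0 := by
    rw [hu3, mulVec_eq]
    refine ⟨?_, ?_, ?_, ?_⟩ <;> simp [rootTerms, a2.1, a2.2.1, a2.2.2, h6]
  have a4 : u4 6 = u0 6 ∧ u4 5 = 0 ∧ u4 4 = 0 ∧ u4 3 = 0 ∧ u4 2 = 0 := by
    rw [hu4, mulVec_eq]
    refine ⟨?_, ?_, ?_, ?_, ?_⟩ <;> simp [rootTerms, a3.1, a3.2.1, a3.2.2.1, a3.2.2.2, h6]
  have a5 : u5 6 = u0 6 ∧ u5 5 = 0 ∧ u5 4 = 0 ∧ u5 3 = 0 ∧ u5 2 = 0 ∧ u5 1 = 0 := by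
    rw [hu5, mulVec_eq]
    refine ⟨?_, ?_, ?_, ?_, ?_, ?_⟩ <;> simp [rootTerms, a4.1, a4.2.1, a4.2.2.1, a4.2.2.2.1, a4.2.2.2.2, h6]
  have h0 : u5 0 = 0 := by
    have hq : Q7 u5 = 0 := by
      rw [← he5, Q7_mat hm5, show Q7 v1 = Q7 v from Q7_mat hg₁ v, hQ]
    obtain ⟨b6, b5, b4, b3, b2, b1⟩ := a5
    simpa [Q7, b6, b5, b4, b3, b2, b1, h6] using hq
  set gU := xg certG2 11 (u4 1 / u4 6) * (xg certG2 10 (u3 2 / u3 6) * (xg certG2 9 (u2 3 / u2 6) *
    (xg certG2 8 (-(u1 4) / u1 6) * (xg certG2 7 (-(u0 5) / u0 6) * (1 : GL chevG2.Idx F))))) with hgU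
  have hw0 : IsWord chevG2 [0, 1, 0, 1, 0, 1] := fun i hi => by
    show i < 2
    simp at hi; omega
  have hg0 := wnu_mem_group certG2 (F := F) hw0
  refine ⟨wnu certG2 F [0, 1, 0, 1, 0, 1] * gU * wnu certG2 F (wordTo j),
    mul_mem (mul_mem hg0 hm5) hg₁, fun k hk => ?_⟩
  rw [mat_mul (mul_mem hg0 hm5) hg₁, mat_mul hg0 hm5, ← Matrix.mulVec_mulVec, ← Matrix.mulVec_mulVec, ← hv1, he5]
  obtain ⟨i, rfl⟩ : ∃ i, piW [0, 1, 0, 1, 0, 1] i = k := Finite.injective_iff_surjective.1 (piW_injective hw0) k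
  rw [moves_wnu hw0]
  obtain ⟨b6, b5, b4, b3, b2, b1⟩ := a5
  fin_cases i <;> first | (exact absurd chkTop hk) | simp [h0, b5, b4, b3, b2, b1]

theorem chkFlag9 : ∀ p ∈ gtPerms, p.getD 3 0 = 9 →
    (p.getD 2 0 = 8 ∧ p.getD 1 0 = 7) ∨ (p.getD 2 0 = 7 ∧ p.getD 1 0 = 8) := by decide +kernel

/-- An element fixing the first line preserves the first three steps. -/
theorem three_of_line {g : GL chevG2.Idx F} (hg : g ∈ chevG2.group F) (h0 : ∀ k : Fin 7, k ≠ 0 → mat g k 0 = 0) :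
    ∀ k j : Fin 7, 2 < k → j ≤ 2 → mat g k j = 0 := by
  obtain ⟨w, hw, b, hb, c, hc, rfl⟩ := bruhat_normal certG2 fullCertG2 hg
  have hcB := signPart_le_borel certG2 fullCertG2 w true hc
  have hG := borel_le_group certG2 (F := F)
  have hAu : Upper (mat b) := upper_of_borel hb
  have hCu : Upper (mat c) := upper_of_borel hcB
  have hM : mat (b * wnu certG2 F w * c) = mat b * mat (wnu certG2 F w) * mat c := by
    rw [mat_mul (mul_mem (hG hb) (wnu_mem_group certG2 hw)) (hG hcB), mat_mul (hG hb) (wnu_mem_group certG2 hw)]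
  rw [hM] at h0 ⊢
  have hN : ∀ k j, (mat b * mat (wnu certG2 F w)) k j = (sgnP w j : F) * mat b k (piW w j) := fun k j => by
    have e := (mat_wnu (F := F) hw j).1
    have e1 : (mat b * mat (wnu certG2 F w)) k j = ((mat b * mat (wnu certG2 F w)) *ᵥ Pi.single j 1) k := by simp
    rw [e1, ← Matrix.mulVec_mulVec, e, Matrix.mulVec_smul]
    simp
  have hp0 : piW w 0 = 0 := by
    by_contra hne
    have := h0 _ hne
    rw [Matrix.mul_apply, Finset.sum_eq_single (0 : Fin 7)] at this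
    · rw [hN] at this
      exact mul_ne_zero (mul_ne_zero (mat_wnu (F := F) hw 0).2 (diag_ne_zero hAu (mat_isUnit (hG hb)) _))
        (diag_ne_zero hCu (mat_isUnit (hG hcB)) 0) this
    · intro j _ hj
      rw [hCu j 0 (Fin.pos_iff_ne_zero.2 hj), mul_zero]
    · intro h; exact absurd (Finset.mem_univ _) h
  have h9 : wperm tblG2 w 9 = 9 := by
    have := (rootOf_piW hw 0 (by decide)).2
    rw [hp0] at this; exact this.symm
  have hpi : ∀ j : Fin 7, j ≤ 2 → piW w j ≤ 2 := by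
    have hback : ∀ i : Fin 7, (rootOf i = 8 ∨ rootOf i = 7) → i ≤ 2 := by decide
    intro j hj
    obtain rfl | rfl | rfl : j = 0 ∨ j = 1 ∨ j = 2 := by revert hj; revert j; decide
    · rw [hp0]; decide
    all_goals
      refine hback _ ?_
      rw [(rootOf_piW hw _ (by decide)).2]
      have := chkFlag9 _ (gtPerms_closed w hw) (by simp [h9])
      simp [rootOf] at this ⊢
      omega
  intro k j hk hj
  rw [Matrix.mul_apply]
  refine Finset.sum_eq_zero fun i _ => ?_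
  rcases lt_or_ge j i with h | h
  · rw [hCu i j h, mul_zero]
  · rw [hN, hAu k (piW w i) (lt_of_le_of_lt (hpi i (le_trans h hj)) hk), mul_zero, zero_mul]

end Cfsg.Lib.Chev.G2Seven
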