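import Mathlib

/-!
Sparse matrices of size seven whose entries are integer polynomials in two variables, with a decidable equality test.
-/

set_option autoImplicit false

namespace Cfsg.Lib.Chev.G2Seven

/-- A monomial entry: row, column, the two exponents, coefficient. -/
abbrev Mon : Type := (Fin 7 × Fin 7 × ℕ × ℕ) × ℤ

/-- The comparison of indices, by the accelerated test on naturals. -/
def finB (i j : Fin 7) : Bool := Nat.beq i.val j.val

theorem finB_iff (i j : Fin 7) : finB i j = true ↔ i = j := by
  rw [finB, Nat.beq_eq, Fin.ext_iff]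

/-- The comparison of keys. -/
def keyB (a b : Fin 7 × Fin 7 × ℕ × ℕ) : Bool :=
  finB a.1 b.1 && (finB a.2.1 b.2.1 && (Nat.beq a.2.2.1 b.2.2.1 && Nat.beq a.2.2.2 b.2.2.2))

theorem keyB_iff (a b : Fin 7 × Fin 7 × ℕ × ℕ) : keyB a b = true ↔ a = b := by
  obtain ⟨a1, a2, a3, a4⟩ := a
  obtain ⟨b1, b2, b3, b4⟩ := b
  simp [keyB, finB_iff]

theorem filter_keyB (l : List Mon) (k : Fin 7 × Fin 7 × ℕ × ℕ) :
    (l.filter fun q => keyB q.1 k) = l.filter fun q => decide (q.1 = k) :=
  List.filter_congr fun q _ => Bool.eq_iff_iff.2 (by rw [keyB_iff, decide_eq_true_iff])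

/-- The product. -/
def mulP (l l' : List Mon) : List Mon :=
  l.flatMap fun p => (l'.filter fun q => finB p.1.2.1 q.1.1).map fun q =>
    ((p.1.1, q.1.2.1, p.1.2.2.1 + q.1.2.2.1, p.1.2.2.2 + q.1.2.2.2), p.2 * q.2)

/-- The identity. -/
def oneP : List Mon := (List.finRange 7).map fun i => ((i, i, 0, 0), 1)

/-- The product of a list. -/
def prodP : List (List Mon) → List Mon
  | [] => oneP
  | l :: ls => mulP l (prodP ls)

/-- The negative. -/
def negP (l : List Mon) : List Mon := l.map fun p => (p.1, -p.2)

/-- The test of vanishing: each key has total coefficient zero. -/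
def zeroP (l : List Mon) : Bool :=
  l.all fun p => decide (((l.filter fun q => keyB q.1 p.1).map fun q => q.2).sum = 0)

/-- The test of equality. -/
def eqP (l l' : List Mon) : Bool := zeroP (l ++ negP l')

/-- The substitution of `(-1)` times the first variable by the inverse of the second. -/
def redP (l : List Mon) : List Mon :=
  l.map fun p => ((p.1.1, p.1.2.1, p.1.2.2.1 - min p.1.2.2.1 p.1.2.2.2, p.1.2.2.2 - min p.1.2.2.1 p.1.2.2.2),
    (-1) ^ min p.1.2.2.1 p.1.2.2.2 * p.2)

section Eval

variable {R : Type*} [CommRing R] (t u : R)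

/-- The value of a monomial entry. -/
def evalMon (p : Mon) : Matrix (Fin 7) (Fin 7) R :=
  Matrix.single p.1.1 p.1.2.1 ((p.2 : R) * t ^ p.1.2.2.1 * u ^ p.1.2.2.2)

/-- The value. -/
def evalP (l : List Mon) : Matrix (Fin 7) (Fin 7) R := (l.map (evalMon t u)).sum

theorem evalP_append (l l' : List Mon) : evalP t u (l ++ l') = evalP t u l + evalP t u l' := by
  simp [evalP]

theorem evalP_cons (p : Mon) (l : List Mon) : evalP t u (p :: l) = evalMon t u p + evalP t u l := by
  simp [evalP]

theorem evalP_nil : evalP t u [] = 0 := rfl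

theorem evalP_negP : ∀ l : List Mon, evalP t u (negP l) = -evalP t u l
  | [] => by simp [negP, evalP_nil]
  | p :: l => by
    rw [negP, List.map_cons, evalP_cons, ← negP, evalP_negP l, evalP_cons, neg_add]
    congr 1
    simp [evalMon, neg_mul, Matrix.single_neg]

theorem evalMon_mul (p : Mon) : ∀ l : List Mon, evalMon t u p * evalP t u l =
    evalP t u ((l.filter fun q => finB p.1.2.1 q.1.1).map fun q =>
      ((p.1.1, q.1.2.1, p.1.2.2.1 + q.1.2.2.1, p.1.2.2.2 + q.1.2.2.2), p.2 * q.2))
  | [] => by simp [evalP_nil]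
  | q :: l => by
    rw [evalP_cons, mul_add, evalMon_mul p l]
    by_cases h : p.1.2.1 = q.1.1
    · rw [List.filter_cons_of_pos (by simp [finB_iff, h]), List.map_cons, evalP_cons]
      congr 1
      simp only [evalMon, h, Matrix.single_mul_single_same, Int.cast_mul, pow_add]
      congr 1; ring
    · rw [List.filter_cons_of_neg (by simp [finB_iff, h]), evalMon, evalMon, Matrix.single_mul_single_of_ne _ _ _ _ h, zero_add]

theorem evalP_mulP : ∀ l l' : List Mon, evalP t u (mulP l l') = evalP t u l * evalP t u l'
  | [], l' => by simp [mulP, evalP_nil]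
  | p :: l, l' => by
    rw [mulP, List.flatMap_cons, ← mulP, evalP_append, evalP_mulP l l', evalP_cons, add_mul, evalMon_mul]

theorem evalP_oneP : evalP t u oneP = 1 := by
  rw [evalP, oneP, List.map_map, ← List.sum_toFinset _ (List.nodup_finRange 7)]
  ext i j
  simp [evalMon, Matrix.sum_apply, Matrix.single_apply, Matrix.one_apply]
  by_cases h : i = j
  · subst h
    simp only [and_self, if_true]
    rw [Finset.filter_eq', if_pos (Finset.mem_univ _)]
    simp
  · simp only [if_neg h]
    rw [Finset.filter_false_of_mem (fun x _ => fun e => h (e.1.symm.trans e.2))]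
    simp

theorem evalP_prodP : ∀ ls : List (List Mon), evalP t u (prodP ls) = (ls.map (evalP t u)).prod
  | [] => by rw [prodP, evalP_oneP, List.map_nil, List.prod_nil]
  | l :: ls => by rw [prodP, evalP_mulP, evalP_prodP ls, List.map_cons, List.prod_cons]

/-- The coefficients as a finitely supported function. -/
noncomputable def coefs (l : List Mon) : (Fin 7 × Fin 7 × ℕ × ℕ) →₀ ℤ := (l.map fun p => Finsupp.single p.1 p.2).sum

theorem coefs_apply (k : Fin 7 × Fin 7 × ℕ × ℕ) : ∀ l : List Mon,
    coefs l k = ((l.filter fun q => decide (q.1 = k)).map fun q => q.2).sum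
  | [] => by simp [coefs]
  | p :: l => by
    rw [coefs, List.map_cons, List.sum_cons, ← coefs, Finsupp.add_apply, coefs_apply k l]
    by_cases h : p.1 = k
    · rw [List.filter_cons_of_pos (by simp [h]), List.map_cons, List.sum_cons, h, Finsupp.single_eq_same]
    · rw [List.filter_cons_of_neg (by simp [h]), Finsupp.single_eq_of_ne (by first | exact h | exact Ne.symm h), zero_add]

theorem evalP_coefs : ∀ l : List Mon, evalP t u l = (coefs l).sum fun k c => evalMon t u (k, c)
  | [] => by simp [coefs, evalP_nil]
  | p :: l => by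
    rw [coefs, List.map_cons, List.sum_cons, ← coefs, Finsupp.sum_add_index', evalP_cons, evalP_coefs l,
      Finsupp.sum_single_index]
    · simp [evalMon]
    · intro k; simp [evalMon]
    · intro k c c'; simp [evalMon, add_mul, Matrix.single_add]

theorem evalP_zeroP {l : List Mon} (h : zeroP l = true) : evalP t u l = 0 := by
  have hc : coefs l = 0 := by
    refine Finsupp.ext fun k => ?_
    rw [coefs_apply, Finsupp.zero_apply]
    by_cases hk : ∃ p ∈ l, p.1 = k
    · obtain ⟨p, hp, rfl⟩ := hk
      have := (List.all_eq_true.1 h) p hp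
      rw [filter_keyB] at this
      simpa using this
    · rw [show (l.filter fun q => decide (q.1 = k)) = [] from List.filter_eq_nil_iff.2 fun q hq e =>
        hk ⟨q, hq, of_decide_eq_true e⟩]
      rfl
  rw [evalP_coefs, hc, Finsupp.sum_zero_index]

theorem evalP_eqP {l l' : List Mon} (h : eqP l l' = true) : evalP t u l = evalP t u l' := by
  have h0 := evalP_zeroP t u h
  rwa [evalP_append, evalP_negP, ← sub_eq_add_neg, sub_eq_zero] at h0

theorem evalP_redP (htu : t * u = -1) : ∀ l : List Mon, evalP t u (redP l) = evalP t u l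
  | [] => rfl
  | p :: l => by
    rw [redP, List.map_cons, ← redP, evalP_cons, evalP_cons, evalP_redP htu l]
    congr 1
    obtain ⟨⟨i, j, a, b⟩, c⟩ := p
    simp only [evalMon]
    congr 1
    obtain ⟨a', m, b', ha, hb, hm⟩ : ∃ a' m b', a = a' + m ∧ b = b' + m ∧ m = min a b :=
      ⟨a - min a b, min a b, b - min a b, by omega, by omega, rfl⟩
    rw [← hm, show a - m = a' by omega, show b - m = b' by omega, ha, hb, pow_add, pow_add,
      Int.cast_mul, Int.cast_pow, Int.cast_neg, Int.cast_one, ← htu, mul_pow]
    ring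

end Eval

end Cfsg.Lib.Chev.G2Seven
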