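import Cfsg.Agent.Lib.Chev.G2Seven.Poly
import Cfsg.Agent.Lib.Chev.StEquiv
import Cfsg.Agent.Lib.Chev.Presentation.Steinberg
import Cfsg.Agent.Lib.Chev.Descent
import Cfsg.Agent.Lib.Chev.FullG2

/-!
The representation of dimension seven of the group of type G2 over a finite field.
-/

set_option autoImplicit false
set_option maxRecDepth 100000

namespace Cfsg.Lib.Chev.G2Seven

open Cfsg.Lie Cfsg.Lib.Chev

/-- The terms of positive degree of the root elements: row, column, degree, coefficient. -/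
def rootTerms : ℕ → List (Fin 7 × Fin 7 × ℕ × ℤ)
  | 0 => [(5, 0, 1, -1), (6, 1, 1, -1)]
  | 1 => [(4, 0, 1, 1), (6, 2, 1, -1)]
  | 2 => [(3, 0, 1, -1), (4, 1, 1, 1), (5, 2, 1, 1), (6, 3, 1, -2), (6, 0, 2, 1)]
  | 3 => [(2, 0, 1, -1), (3, 1, 1, 1), (5, 3, 1, -2), (6, 4, 1, 1), (5, 1, 2, -1)]
  | 4 => [(1, 0, 1, 1), (3, 2, 1, 1), (4, 3, 1, 2), (6, 5, 1, 1), (4, 2, 2, 1)]
  | 5 => [(2, 1, 1, 1), (5, 4, 1, 1)]
  | 6 => [(1, 2, 1, 1), (4, 5, 1, 1)]
  | 7 => [(0, 1, 1, 1), (2, 3, 1, 2), (3, 4, 1, 1), (5, 6, 1, 1), (2, 4, 2, 1)]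
  | 8 => [(0, 2, 1, -1), (1, 3, 1, 2), (3, 5, 1, -1), (4, 6, 1, 1), (1, 5, 2, -1)]
  | 9 => [(0, 3, 1, -2), (1, 4, 1, 1), (2, 5, 1, 1), (3, 6, 1, -1), (0, 6, 2, 1)]
  | 10 => [(0, 4, 1, 1), (2, 6, 1, -1)]
  | 11 => [(0, 5, 1, -1), (1, 6, 1, -1)]
  | _ => []

/-- A root element with the parameter a monomial. -/
def px (r : ℕ) (c : ℤ) (a b : ℕ) : List Mon :=
  oneP ++ (rootTerms r).map fun e => ((e.1, e.2.1, a * e.2.2.1, b * e.2.2.1), e.2.2.2 * c ^ e.2.2.1)

/-- A root element with the parameter the sum of the two variables. -/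
def pxSum (r : ℕ) : List Mon :=
  oneP ++ (rootTerms r).flatMap fun e => (List.range (e.2.2.1 + 1)).map fun k =>
    ((e.1, e.2.1, k, e.2.2.1 - k), e.2.2.2 * (e.2.2.1.choose k : ℤ))

/-- The check of the additivity. -/
def chkAdd : Bool :=
  (List.range 12).all fun r =>
    eqP (mulP (px r 1 1 0) (px r 1 0 1)) (pxSum r) && eqP (mulP (px r 1 1 0) (px r (-1) 1 0)) oneP &&
      eqP (mulP (px r (-1) 1 0) (px r 1 1 0)) oneP

/-- The check of a commutator relation. -/
noncomputable def chkPair (r s : ℕ) : Bool :=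
  decide (s = r) || (decide (s = tblG2.neg r) ||
    eqP (mulP (px s 1 0 1) (px r 1 1 0))
      (prodP (px r 1 1 0 :: px s 1 0 1 ::
        (tTerms tblG2 r s).map fun c => px c.1 (c.2.1 * (-1) ^ c.2.2.1) c.2.2.1 c.2.2.2)))

theorem chkAdd_ok : chkAdd = true := by decide +kernel

theorem chkPair_ok : ((List.range 12).all fun r => (List.range 12).all fun s => chkPair r s) = true := by
  decide +kernel

theorem chkDeg_ok : ((List.range 12).all fun r => (rootTerms r).all fun e => decide (e.2.2.1 ≠ 0)) = true := by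
  decide +kernel

theorem chkTerms_lt : ((List.range 12).all fun r => (List.range 12).all fun s =>
    (tTerms tblG2 r s).all fun c => decide (c.1 < 12)) = true := by decide +kernel

section Root

variable {R : Type*} [CommRing R]

/-- The matrix of a root element. -/
noncomputable def x7M (r : ℕ) (z : R) : Matrix (Fin 7) (Fin 7) R := evalP z 0 (px r 1 1 0)

theorem evalP_terms (t u : R) (l : List (Fin 7 × Fin 7 × ℕ × ℤ)) (c : ℤ) (a b : ℕ) :
    evalP t u (l.map fun e => ((e.1, e.2.1, a * e.2.2.1, b * e.2.2.1), e.2.2.2 * c ^ e.2.2.1)) =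
      (l.map fun e => Matrix.single e.1 e.2.1 ((e.2.2.2 : R) * ((c : R) * t ^ a * u ^ b) ^ e.2.2.1)).sum := by
  rw [evalP, List.map_map]
  congr 1
  refine List.map_congr_left fun e _ => ?_
  simp only [Function.comp_apply, evalMon, Int.cast_mul, Int.cast_pow, mul_pow, ← pow_mul]
  congr 1; ring

theorem evalP_px (t u : R) (r : ℕ) (c : ℤ) (a b : ℕ) :
    evalP t u (px r c a b) = x7M r ((c : R) * t ^ a * u ^ b) := by
  rw [x7M, px, px, evalP_append, evalP_append, evalP_oneP, evalP_oneP, evalP_terms, evalP_terms]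
  simp

theorem evalP_pxSum (t u : R) (r : ℕ) : evalP t u (pxSum r) = x7M r (t + u) := by
  rw [x7M, pxSum, px, evalP_append, evalP_append, evalP_oneP, evalP_oneP, evalP_terms]
  congr 1
  induction rootTerms r with
  | nil => rfl
  | cons e l ih =>
    rw [List.flatMap_cons, evalP_append, ih, List.map_cons, List.sum_cons]
    congr 1
    simp only [Int.cast_one, one_mul, pow_zero, pow_one, mul_one]
    rw [evalP, List.map_map, add_pow, Finset.mul_sum]
    rw [show (∑ k ∈ Finset.range (e.2.2.1 + 1), (e.2.2.2 : R) * (t ^ k * u ^ (e.2.2.1 - k) * (e.2.2.1.choose k : R)))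
      = ((List.range (e.2.2.1 + 1)).map fun k => (e.2.2.2 : R) * (t ^ k * u ^ (e.2.2.1 - k) * (e.2.2.1.choose k : R))).sum
      from rfl, ← Matrix.singleAddMonoidHom_apply, map_list_sum (Matrix.singleAddMonoidHom e.1 e.2.1 : R →+ _), List.map_map]
    congr 1
    refine List.map_congr_left fun k _ => ?_
    simp only [Function.comp_apply, evalMon, Matrix.singleAddMonoidHom_apply]
    congr 1
    push_cast
    ring

theorem x7M_mul {r : ℕ} (hr : r < 12) (t u : R) : x7M r t * x7M r u = x7M r (t + u) := by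
  have h := (List.all_eq_true.1 chkAdd_ok) r (List.mem_range.2 hr)
  simp only [Bool.and_eq_true] at h
  rw [← evalP_pxSum, ← evalP_eqP t u h.1.1, evalP_mulP, evalP_px, evalP_px]
  simp

theorem x7M_zero (r : ℕ) : x7M r (0 : R) = 1 := by
  rw [x7M, px, evalP_append, evalP_oneP, evalP_terms, List.sum_eq_zero, add_zero]
  intro y hy
  obtain ⟨e, he, rfl⟩ := List.mem_map.1 hy
  have : e.2.2.1 ≠ 0 := by
    rcases lt_or_ge r 12 with hr | hr
    · exact of_decide_eq_true
        ((List.all_eq_true.1 ((List.all_eq_true.1 chkDeg_ok) r (List.mem_range.2 hr))) e he)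
    · obtain ⟨k, rfl⟩ := Nat.exists_eq_add_of_le hr
      rw [show rootTerms (12 + k) = [] by rw [Nat.add_comm]; rfl] at he
      exact absurd he List.not_mem_nil
  simp [zero_pow this]

theorem x7M_comm {r s : ℕ} (hr : r < 12) (hs : s < 12) (h1 : s ≠ r) (h2 : s ≠ tblG2.neg r) (t u : R) :
    x7M s (-u) * x7M r (-t) * x7M s u * x7M r t =
      ((tTerms tblG2 r s).map fun c => x7M c.1 ((c.2.1 : R) * (-t) ^ c.2.2.1 * u ^ c.2.2.2)).prod := by
  have h := (List.all_eq_true.1 ((List.all_eq_true.1 chkPair_ok) r (List.mem_range.2 hr))) s (List.mem_range.2 hs)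
  simp only [chkPair, Bool.or_eq_true, decide_eq_true_eq, h1, h2, false_or] at h
  have e := evalP_eqP t u h
  rw [evalP_mulP, evalP_prodP, List.map_cons, List.map_cons, List.map_map, List.prod_cons, List.prod_cons] at e
  simp only [evalP_px, Int.cast_one, one_mul, pow_one, pow_zero, mul_one] at e
  rw [show ((tTerms tblG2 r s).map fun c => x7M c.1 ((c.2.1 : R) * (-t) ^ c.2.2.1 * u ^ c.2.2.2)) =
    (tTerms tblG2 r s).map (evalP t u ∘ fun c => px c.1 (c.2.1 * (-1) ^ c.2.2.1) c.2.2.1 c.2.2.2) from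
    List.map_congr_left fun c _ => by
      rw [Function.comp_apply, evalP_px]; exact congrArg (x7M c.1) (by push_cast; rw [neg_pow]; ring)]
  rw [mul_assoc (x7M s (-u) * x7M r (-t)), e, ← mul_assoc, mul_assoc (x7M s (-u)), x7M_mul hr, neg_add_cancel,
    x7M_zero, mul_one, ← mul_assoc, x7M_mul hs, neg_add_cancel, x7M_zero, one_mul]

end Root

variable {F : Type*} [Field F]

/-- A root element. -/
noncomputable def x7 (p : Fin chevG2.nroots × F) : GL (Fin 7) F where
  val := x7M p.1 p.2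
  inv := x7M p.1 (-p.2)
  val_inv := by rw [x7M_mul p.1.2, add_neg_cancel, x7M_zero]
  inv_val := by rw [x7M_mul p.1.2, neg_add_cancel, x7M_zero]

theorem coe_lift {r : ℕ} (hr : r < 12) (t : F) :
    ((FreeGroup.lift x7 (chevG2.stX r t) : GL (Fin 7) F) : Matrix (Fin 7) (Fin 7) F) = x7M r t := by
  rw [ChevalleyDatum.stX, dif_pos (show r < chevG2.nroots from hr), FreeGroup.lift_apply_of]
  rfl

theorem coe_lift_inv {r : ℕ} (hr : r < 12) (t : F) :
    (((FreeGroup.lift x7 (chevG2.stX r t))⁻¹ : GL (Fin 7) F) : Matrix (Fin 7) (Fin 7) F) = x7M r (-t) := by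
  rw [ChevalleyDatum.stX, dif_pos (show r < chevG2.nroots from hr), FreeGroup.lift_apply_of]
  rfl

theorem x7_rels : ∀ g ∈ chevG2.steinbergRelsAB F, FreeGroup.lift x7 g = 1 := by
  rintro g (⟨r, t, u, hr, rfl⟩ | ⟨r, s, t, u, hr, hs, h1, h2, rfl⟩)
  · rw [map_mul, map_mul, map_inv, mul_inv_eq_one]
    refine Units.ext ?_
    rw [Units.val_mul, coe_lift hr, coe_lift hr, coe_lift hr, x7M_mul hr]
  · rw [certG2.spec.shape.neg_eq r hr] at h2
    have hr' : r < 12 := hr
    have hs' : s < 12 := hs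
    rw [map_mul, map_inv, mul_inv_eq_one, map_mul, map_mul, map_mul, map_inv, map_inv, hom_stWord,
      ChevalleyDatum.commWord, commTerms_eq certG2 hr hs, List.map_map]
    refine Units.ext ?_
    rw [Units.val_mul, Units.val_mul, Units.val_mul, coe_lift_inv hs', coe_lift_inv hr', coe_lift hs', coe_lift hr',
      x7M_comm hr' hs' h1 h2, ← Units.coeHom_apply, map_list_prod, List.map_map]
    refine congrArg List.prod (List.map_congr_left fun c hc => ?_)
    have hc' := (List.all_eq_true.1 ((List.all_eq_true.1 ((List.all_eq_true.1 chkTerms_lt) r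
      (List.mem_range.2 hr'))) s (List.mem_range.2 hs'))) c hc
    simp only [Function.comp_apply, Units.coeHom_apply]
    rw [coe_lift (of_decide_eq_true hc')]

variable (F)

theorem exists_rho [Finite F] :
    ∃ φ : ↥(chevG2.group F) →* GL (Fin 7) F, ∀ (r : ℕ) (_hr : r < 12) (t : F),
      ((φ ⟨xg certG2 r t, xg_mem_group certG2 r t⟩ : GL (Fin 7) F) : Matrix (Fin 7) (Fin 7) F) = x7M r t := by
  obtain ⟨e, he⟩ := exists_coverEquiv (F := F) (D := chevG2) (by simp)
  set π := stHom certG2 fullCertG2.comm (F := F) with hπ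
  have hπg : ∀ r < chevG2.nroots, ∀ t : F, π (chevG2.stGen F r t) = xg certG2 r t := fun r hr t =>
    stHom_gen certG2 fullCertG2.comm hr t
  have hinj : Function.Injective π := by
    refine (MonoidHom.ker_eq_bot_iff π).1 ((Subgroup.eq_bot_iff_forall _).2 fun g hg => ?_)
    exact st_hSub_inj certG2 fullCertG2 chkSelf_G2 (M := [[2, 1], [3, 2]]) (by decide +kernel) π hπg
      (st_ker_le certG2 fullCertG2 chkSelf_G2 π hπg hg).1 hg
  let ψ : ↥(chevG2.group F) ≃* chevG2.SteinbergGroup F :=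
    ((MonoidHom.ofInjective hinj).trans (MulEquiv.subgroupCongr (stHom_range certG2 fullCertG2 π hπg))).symm
  let ρ : chevG2.SteinbergCover F →* GL (Fin 7) F := PresentedGroup.toGroup x7_rels
  refine ⟨ρ.comp (e.symm.toMonoidHom.comp ψ.toMonoidHom), fun r hr t => ?_⟩
  have h1 : ψ ⟨xg certG2 r t, xg_mem_group certG2 r t⟩ = chevG2.stGen F r t := by
    rw [MulEquiv.symm_apply_eq]
    exact Subtype.ext (hπg r hr t).symm
  have h2 : e.symm (chevG2.stGen F r t) = chevG2.scGen F r t := by rw [MulEquiv.symm_apply_eq, he]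
  show ((ρ (e.symm (ψ _)) : GL (Fin 7) F) : Matrix (Fin 7) (Fin 7) F) = _
  rw [h1, h2]
  show ((ρ (PresentedGroup.mk _ (chevG2.stX r t)) : GL (Fin 7) F) : Matrix (Fin 7) (Fin 7) F) = _
  rw [show ρ (PresentedGroup.mk _ (chevG2.stX r t)) = FreeGroup.lift x7 (chevG2.stX r t) from rfl, coe_lift hr]

end Cfsg.Lib.Chev.G2Seven
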