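import Cfsg.Agent.Lib.Chev.G2Seven.Jordan

/-!
Element orders of G2: the torus part and the exponent of the commuting unipotent part.
-/

set_option autoImplicit false
set_option maxRecDepth 100000

namespace Cfsg.Lib.Chev.G2Seven

open Cfsg.Lie Cfsg.Lib.Chev
open Cfsg.Lib.ClassSquare.GTwo (torus torus_mem cvec)

variable {L : Type*} [Field L]

/-- The roots of a torus element as units. -/
def chrU (x y : Lˣ) (r : ℕ) : Lˣ := x ^ tblG2.cartan 0 r * y ^ tblG2.cartan 1 r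

theorem chrT_eq (x y : Lˣ) (r : ℕ) : chrT x y r = (chrU x y r : L) := by
  rw [chrT, chr, show chevG2.rank = 2 from rfl, Finset.prod_range_succ, Finset.prod_range_succ,
    Finset.prod_range_zero, one_mul]
  simp [chrU, extend', cvec, show chevG2.rank = 2 from rfl, Units.val_zpow_eq_zpow_val]

theorem chrT_eq_one (x y : Lˣ) (r : ℕ) : chrT x y r = 1 ↔ chrU x y r = 1 := by
  rw [chrT_eq, Units.val_eq_one]

theorem torus_pow (x y : Lˣ) (m : ℕ) : torus x y ^ m = torus (x ^ m) (y ^ m) := by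
  induction m with
  | zero => simp [Cfsg.Lib.ClassSquare.GTwo.torus_one]
  | succ m ih => rw [pow_succ, ih, Cfsg.Lib.ClassSquare.GTwo.torus_mul, pow_succ, pow_succ]

theorem order_dvd {x y : Lˣ} {m : ℕ} (hx : x ^ m = 1) (hy : y ^ m = 1) : orderOf (torus x y) ∣ m :=
  orderOf_dvd_of_pow_eq_one (by rw [torus_pow, hx, hy, Cfsg.Lib.ClassSquare.GTwo.torus_one])

theorem order_dvd_int {x y : Lˣ} {d : ℤ} (hx : x ^ d = 1) (hy : y ^ d = 1) : orderOf (torus x y) ∣ d.natAbs :=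
  order_dvd (pow_natAbs_eq_one.2 hx) (pow_natAbs_eq_one.2 hy)

theorem zpow_trans {M : Type*} [CommGroup M] {x y : M} {q a b c d : ℤ} (hx : x ^ q = x ^ a * y ^ b)
    (hy : y ^ q = x ^ c * y ^ d) :
    x ^ (q * q - (a + d) * q + (a * d - b * c)) = 1 ∧ y ^ (q * q - (a + d) * q + (a * d - b * c)) = 1 := by
  have h1 : q • Additive.ofMul x = a • Additive.ofMul x + b • Additive.ofMul y := hx
  have h2 : q • Additive.ofMul y = c • Additive.ofMul x + d • Additive.ofMul y := hy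
  constructor
  · show (q * q - (a + d) * q + (a * d - b * c)) • Additive.ofMul x = 0
    linear_combination (norm := module) (q - d) • h1 + b • h2
  · show (q * q - (a + d) * q + (a * d - b * c)) • Additive.ofMul y = 0
    linear_combination (norm := module) c • h1 + (q - a) • h2

theorem kill_pair {M : Type*} [CommGroup M] {x y : M} {a b c d : ℤ} (hx : x ^ a * y ^ b = 1)
    (hy : x ^ c * y ^ d = 1) : x ^ (a * d - b * c) = 1 ∧ y ^ (a * d - b * c) = 1 := by
  have h1 : a • Additive.ofMul x + b • Additive.ofMul y = 0 := hx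
  have h2 : c • Additive.ofMul x + d • Additive.ofMul y = 0 := hy
  constructor
  · show (a * d - b * c) • Additive.ofMul x = 0
    linear_combination (norm := module) d • h1 - b • h2
  · show (a * d - b * c) • Additive.ofMul y = 0
    linear_combination (norm := module) a • h2 - c • h1

/-- The determinant of two roots. -/
def detR (r s : ℕ) : ℤ := tblG2.cartan 0 r * tblG2.cartan 1 s - tblG2.cartan 1 r * tblG2.cartan 0 s

/-- The pairs of orthogonal positive roots. -/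
def orthP : List (ℕ × ℕ) := [(6, 9), (9, 6), (8, 10), (10, 8), (7, 11), (11, 7)]

theorem chkDet : ((List.range 12).all fun r => (List.range 12).all fun s =>
    decide (r < 6 ∨ s < 6 ∨ r = s ∨ (detR r s).natAbs = 1 ∨ ((detR r s).natAbs = 2 ∧ (r, s) ∈ orthP) ∨
      ((detR r s).natAbs = 3 ∧ r ∈ [6, 10, 11] ∧ s ∈ [6, 10, 11]))) = true := by
  decide +kernel

/-- Two roots trivial on a torus element. -/
theorem two_fixed {x y : Lˣ} {r s : ℕ} (hr : 6 ≤ r) (hr' : r < 12) (hs : 6 ≤ s) (hs' : s < 12) (hne : r ≠ s)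
    (h1 : chrU x y r = 1) (h2 : chrU x y s = 1) :
    orderOf (torus x y) = 1 ∨ (orderOf (torus x y) ∣ 2 ∧ (r, s) ∈ orthP) ∨
      (orderOf (torus x y) ∣ 3 ∧ r ∈ [6, 10, 11] ∧ s ∈ [6, 10, 11]) := by
  obtain ⟨e1, e2⟩ := kill_pair h1 h2
  have hd := order_dvd_int e1 e2
  have h := of_decide_eq_true ((List.all_eq_true.1 ((List.all_eq_true.1 chkDet) r (List.mem_range.2 hr'))) s
    (List.mem_range.2 hs'))
  rcases h with h | h | h | h | ⟨h, hp⟩ | ⟨h, hp⟩
  · omega
  · omega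
  · exact absurd h hne
  · exact Or.inl (Nat.dvd_one.1 (h ▸ hd))
  · exact Or.inr (Or.inl ⟨h ▸ hd, hp⟩)
  · exact Or.inr (Or.inr ⟨h ▸ hd, hp⟩)

theorem xg_pow (r : ℕ) (t : L) : ∀ m : ℕ, xg certG2 r t ^ m = xg certG2 r ((m : L) * t)
  | 0 => by simp [xg_zero]
  | m + 1 => by rw [pow_succ, xg_pow r t m, xg_add, Nat.cast_succ, add_one_mul]

theorem chkOrth : ∀ rs ∈ orthP, (tTerms tblG2 rs.1 rs.2).isEmpty = true ∧ rs.1 < 12 ∧ rs.2 < 12 ∧
    rs.2 ≠ rs.1 ∧ rs.2 ≠ tblG2.neg rs.1 := by decide +kernel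

theorem xg_commute_nil {r s : ℕ} (hr : r < 12) (hs : s < 12) (h1 : s ≠ r) (h2 : s ≠ tblG2.neg r)
    (he : tTerms tblG2 r s = []) (t u : L) : Commute (xg certG2 r t) (xg certG2 s u) := by
  show xg certG2 r t * xg certG2 s u = xg certG2 s u * xg certG2 r t
  refine Units.ext ?_
  have := comm_formula fullCertG2.comm (F := L) hr hs h1 h2 t u
  rw [ChevalleyDatum.commWord, commTerms_eq certG2 hr hs, he, List.map_nil] at this
  rw [Units.val_mul, Units.val_mul, coe_xg, coe_xg, this]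
  simp [ChevalleyDatum.wordMat]

/-- A set of commuting root groups. -/
theorem pow_prime_of_comm {p : ℕ} [CharP L p] {S : List ℕ}
    (hS : ∀ r ∈ S, ∀ s ∈ S, r = s ∨ (r, s) ∈ orthP) {u : GL chevG2.Idx L}
    (hu : u ∈ Subgroup.closure {g | ∃ r ∈ S, ∃ t : L, g = xg certG2 r t}) : u ^ p = 1 := by
  have hc : ∀ a ∈ {g : GL chevG2.Idx L | ∃ r ∈ S, ∃ t : L, g = xg certG2 r t},
      ∀ b ∈ {g : GL chevG2.Idx L | ∃ r ∈ S, ∃ t : L, g = xg certG2 r t}, a * b = b * a := by
    rintro _ ⟨r, hr, t, rfl⟩ _ ⟨s, hs, v, rfl⟩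
    rcases hS r hr s hs with rfl | h
    · rw [xg_add, xg_add, add_comm]
    · obtain ⟨h1, h2, h3, h4, h5⟩ := chkOrth _ h
      exact (xg_commute_nil h2 h3 h4 h5 (List.isEmpty_iff.1 h1) t v).eq
  have hcl := Subgroup.isMulCommutative_closure hc
  induction hu using Subgroup.closure_induction with
  | mem x hx =>
    obtain ⟨r, -, t, rfl⟩ := hx
    rw [xg_pow, CharP.cast_eq_zero, zero_mul, xg_zero]
  | one => exact one_pow p
  | mul a b ha hb ea eb =>
    have hab : Commute a b := congrArg Subtype.val (hcl.is_comm.comm ⟨a, ha⟩ ⟨b, hb⟩)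
    rw [hab.mul_pow, ea, eb, one_mul]
  | inv a _ ea => rw [inv_pow, ea, inv_one]

/-- Matrices raising a level. -/
def Raises (lev : Fin 7 → ℕ) (k : ℕ) (M : Matrix (Fin 7) (Fin 7) L) : Prop :=
  ∀ i j, lev j < lev i + k → M i j = 0

theorem Raises.mul {lev : Fin 7 → ℕ} {a b : ℕ} {M N : Matrix (Fin 7) (Fin 7) L} (hM : Raises lev a M)
    (hN : Raises lev b N) : Raises lev (a + b) (M * N) := fun i j h => by
  rw [Matrix.mul_apply]
  refine Finset.sum_eq_zero fun k _ => ?_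
  rcases lt_or_ge (lev k) (lev i + a) with h' | h'
  · rw [hM i k h', zero_mul]
  · rw [hN k j (by omega), mul_zero]

theorem Raises.pow {lev : Fin 7 → ℕ} {M : Matrix (Fin 7) (Fin 7) L} (hM : Raises lev 1 M) :
    ∀ m : ℕ, Raises lev m (M ^ m)
  | 0 => fun i j h => by
    rw [pow_zero, Matrix.one_apply_ne]
    rintro rfl; omega
  | m + 1 => by rw [pow_succ]; exact (Raises.pow hM m).mul hM

/-- A level strictly increased by the given roots. -/
def levOK (lev : Fin 7 → ℕ) (r : ℕ) : Bool := (rootTerms r).all fun e => decide (lev e.1 < lev e.2.1)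

/-- The exponent of a group of root elements raising a level. -/
theorem pow_eq_one_of_lev [Finite L] {p k : ℕ} [Fact p.Prime] [CharP L p] {lev : Fin 7 → ℕ} {S : List ℕ}
    (hS : ∀ r ∈ S, r < 12 ∧ levOK lev r = true) (hk : ∀ i, lev i < p ^ k) {u : GL chevG2.Idx L}
    (hu : u ∈ Subgroup.closure {g | ∃ r ∈ S, ∃ t : L, g = xg certG2 r t}) : u ^ (p ^ k) = 1 := by
  have key : u ∈ chevG2.group L ∧ Raises lev 1 (mat u - 1) := by
    rw [← Subgroup.mem_toSubmonoid, Subgroup.closure_toSubmonoid] at hu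
    refine Submonoid.closure_induction (motive := fun x _ => x ∈ chevG2.group L ∧ Raises lev 1 (mat x - 1))
      ?_ ?_ ?_ hu
    · intro x hx
      obtain ⟨r, hr, t, rfl⟩ : ∃ r ∈ S, ∃ t, x = xg certG2 r t := by
        rcases hx with hx | hx
        · exact hx
        · obtain ⟨r, hr, t, e⟩ := Set.mem_inv.1 hx
          exact ⟨r, hr, -t, by rw [← inv_inv x, e, xg_inv]⟩
      refine ⟨xg_mem_group certG2 _ _, ?_⟩
      intro i j hij
      rw [mat_xg (hS r hr).1, x7M, px, evalP_append, evalP_oneP, evalP_terms, add_sub_cancel_left]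
      generalize hl : rootTerms r = l
      have hlt : ∀ e ∈ l, lev e.1 < lev e.2.1 := fun e he => of_decide_eq_true
        ((List.all_eq_true.1 (hS r hr).2) e (hl ▸ he))
      clear hl
      induction l with
      | nil => rfl
      | cons e l ih =>
        rw [List.map_cons, List.sum_cons, Matrix.add_apply, ih fun e' he => hlt e' (List.mem_cons_of_mem _ he),
          add_zero, Matrix.single_apply, if_neg]
        rintro ⟨rfl, rfl⟩
        have := hlt e List.mem_cons_self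
        omega
    · exact ⟨one_mem _, fun i j _ => by rw [mat_one, sub_self]; rfl⟩
    · intro x y _ _ hx hy
      refine ⟨mul_mem hx.1 hy.1, ?_⟩
      rw [mat_mul hx.1 hy.1, show mat x * mat y - 1 = (mat x - 1) * (mat y - 1) + (mat x - 1) + (mat y - 1) by
        noncomm_ring]
      intro i j hij
      rw [Matrix.add_apply, Matrix.add_apply, (hx.2.mul hy.2) i j (by omega), hx.2 i j hij, hy.2 i j hij]
      simp
  refine eq_one_of_mat (pow_mem key.1 _) ?_
  rw [mat_pow key.1, show mat u = 1 + (mat u - 1) by abel,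
    add_pow_char_pow_of_commute _ _ (Commute.one_left _), one_pow]
  have : (mat u - 1) ^ p ^ k = 0 := by
    ext i j
    exact key.2.pow _ i j (by have := hk j; omega)
  rw [this, add_zero]

/-- The weights of the coordinates. -/
theorem dgv_eq (x y : Lˣ) (i : Fin 7) : dgv (x : L) y i = ((x ^ wts 7 i * y ^ wts 6 i : Lˣ) : L) := by
  fin_cases i <;> simp [wts, dgv, zpow_ofNat, zpow_neg, div_eq_mul_inv, mul_comm]

theorem chkWts : ∀ r < 12, r ∈ [7, 8, 9] → ∃ i : Fin 7, i ≠ 3 ∧ wts 7 i = tblG2.cartan 0 r ∧ wts 6 i = tblG2.cartan 1 r := by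
  decide +kernel

section Stable

variable [Fintype L] {p : ℕ} [Fact p.Prime] [CharP L p] {Q n₀ : ℕ} (hQ : Q = p ^ n₀) {x y : Lˣ}
  (hstab : ∃ z ∈ chevG2.group L, z * torus x y * z⁻¹ = torus (x ^ Q) (y ^ Q))
include hQ hstab

omit [Fintype L] hstab in
theorem pow_Q_inj {a b : Lˣ} (h : a ^ Q = b ^ Q) : a = b := Units.ext (by
  have h1 := congrArg Units.val h
  rw [Units.val_pow_eq_pow_val, Units.val_pow_eq_pow_val, hQ] at h1
  exact iterateFrobenius_inj L p n₀ h1)

/-- The list of conditions on a regular element. -/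
theorem regular_case (hreg : ∀ r, 6 ≤ r → r < 12 → chrU x y r ≠ 1) :
    ∃ m ∈ [(Q : ℤ) - 1, (Q : ℤ) + 1, (Q : ℤ) * Q - 1, (Q : ℤ) * Q + Q + 1, (Q : ℤ) * Q - Q + 1],
      x ^ m = 1 ∧ y ^ m = 1 := by
  obtain ⟨z, hz, e⟩ := hstab
  have hall : ∀ r < 12, chrU x y r ≠ 1 := fun r hr => by
    rcases lt_or_ge r 6 with h | h
    · have hneg : ∀ r < 6, 6 ≤ 11 - r ∧ tblG2.cartan 0 r = -tblG2.cartan 0 (11 - r) ∧
          tblG2.cartan 1 r = -tblG2.cartan 1 (11 - r) := by decide +kernel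
      obtain ⟨h1, h2, h3⟩ := hneg r h
      intro e1
      refine hreg (11 - r) h1 (by omega) ?_
      rw [chrU, h2, h3, zpow_neg, zpow_neg, ← mul_inv, inv_eq_one] at e1
      exact e1
    · exact hreg r h hr
  have hpow : ∀ r, chrU (x ^ Q) (y ^ Q) r = chrU x y r ^ Q := fun r => by
    rw [chrU, chrU, mul_pow, ← zpow_natCast x Q, ← zpow_natCast y Q, ← zpow_natCast (x ^ _) Q,
      ← zpow_natCast (y ^ _) Q, ← zpow_mul, ← zpow_mul, ← zpow_mul, ← zpow_mul, mul_comm (Q : ℤ), mul_comm (Q : ℤ)]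
  obtain ⟨v, hv, hchr⟩ := Ree.regular_conj certG2 fullCertG2 (c := cvec x y) (c' := cvec (x ^ Q) (y ^ Q))
    (fun r hr => fun h => hall r hr ((chrT_eq_one x y r).1 h))
    (fun r hr => fun h => hall r hr (pow_Q_inj hQ (by rw [← hpow, one_pow]; exact (chrT_eq_one _ _ r).1 h)))
    (u := z⁻¹) (inv_mem hz) (by
      show torus x y * z⁻¹ = z⁻¹ * torus (x ^ Q) (y ^ Q)
      rw [← e]; group)
  have key : ∀ r < 12, chrU x y r ^ Q = chrU x y (wperm tblG2 v r) := fun r hr => by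
    rw [← hpow]
    refine Units.ext ?_
    rw [← chrT_eq, ← chrT_eq]
    exact (hchr r hr).symm
  obtain ⟨e9, he9⟩ : ∃ e, e = wperm tblG2 v 9 := ⟨_, rfl⟩
  obtain ⟨e8, he8⟩ : ∃ e, e = wperm tblG2 v 8 := ⟨_, rfl⟩
  have k9 := key 9 (by decide)
  have k8 := key 8 (by decide)
  rw [← he9] at k9
  rw [← he8] at k8
  have hval : tblG2.cartan 0 9 = 1 ∧ tblG2.cartan 1 9 = 0 ∧ tblG2.cartan 0 8 = -1 ∧ tblG2.cartan 1 8 = 1 := by
    decide +kernel
  simp only [chrU, hval.1, hval.2.1, hval.2.2.1, hval.2.2.2, zpow_one, zpow_zero, mul_one, zpow_neg] at k9 k8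
  have hxy : y ^ Q = x ^ (tblG2.cartan 0 e9 + tblG2.cartan 0 e8) * y ^ (tblG2.cartan 1 e9 + tblG2.cartan 1 e8) := by
    calc y ^ Q = x ^ Q * (x⁻¹ * y) ^ Q := by rw [← mul_pow, mul_inv_cancel_left]
      _ = _ := by rw [k9, k8, zpow_add, zpow_add, mul_mul_mul_comm]
  have hq9 : x ^ (Q : ℤ) = x ^ tblG2.cartan 0 e9 * y ^ tblG2.cartan 1 e9 := by rw [zpow_natCast]; exact k9
  have hq8 : y ^ (Q : ℤ) = x ^ (tblG2.cartan 0 e9 + tblG2.cartan 0 e8) * y ^ (tblG2.cartan 1 e9 + tblG2.cartan 1 e8) := by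
    rw [zpow_natCast]; exact hxy
  obtain ⟨h1, h2⟩ := zpow_trans hq9 hq8
  have hchk : ∀ l ∈ gtPerms, ((tblG2.cartan 0 (l.getD 3 0) = 1 ∧ tblG2.cartan 1 (l.getD 3 0) = 0 ∧
        tblG2.cartan 0 (l.getD 2 0) = -1 ∧ tblG2.cartan 1 (l.getD 2 0) = 1) ∨
      (tblG2.cartan 0 (l.getD 3 0) = -1 ∧ tblG2.cartan 1 (l.getD 3 0) = 0 ∧
        tblG2.cartan 0 (l.getD 2 0) = 1 ∧ tblG2.cartan 1 (l.getD 2 0) = -1)) ∨
      ((tblG2.cartan 0 (l.getD 3 0) + (tblG2.cartan 1 (l.getD 3 0) + tblG2.cartan 1 (l.getD 2 0)),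
        tblG2.cartan 0 (l.getD 3 0) * (tblG2.cartan 1 (l.getD 3 0) + tblG2.cartan 1 (l.getD 2 0)) -
          tblG2.cartan 1 (l.getD 3 0) * (tblG2.cartan 0 (l.getD 3 0) + tblG2.cartan 0 (l.getD 2 0))) ∈
        ([(0, -1), (1, 1), (-1, 1)] : List (ℤ × ℤ))) := by decide +kernel
  have hl := hchk _ (gtPerms_closed v hv)
  simp only [List.map_cons, List.getD_cons_succ, List.getD_cons_zero, ← he9, ← he8] at hl
  rcases hl with (⟨a1, a2, a3, a4⟩ | ⟨a1, a2, a3, a4⟩) | hl
  · rw [a1, a2, zpow_one, zpow_zero, mul_one] at k9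
    rw [a1, a2, a3, a4] at hxy
    norm_num at hxy
    exact ⟨(Q : ℤ) - 1, by simp, by rw [zpow_sub, zpow_natCast, k9, zpow_one, mul_inv_cancel],
      by rw [zpow_sub, zpow_natCast, hxy, zpow_one, mul_inv_cancel]⟩
  · rw [a1, a2, zpow_neg, zpow_one, zpow_zero, mul_one] at k9
    rw [a1, a2, a3, a4] at hxy
    norm_num at hxy
    exact ⟨(Q : ℤ) + 1, by simp, by rw [zpow_add, zpow_natCast, k9, zpow_one, inv_mul_cancel],
      by rw [zpow_add, zpow_natCast, hxy, zpow_one, inv_mul_cancel]⟩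
  · simp only [List.mem_cons, List.not_mem_nil, or_false, Prod.mk.injEq] at hl
    rcases hl with ⟨a1, a2⟩ | ⟨a1, a2⟩ | ⟨a1, a2⟩ <;> rw [a1, a2] at h1 h2
    · exact ⟨(Q : ℤ) * Q - 1, by simp, by simpa [sub_eq_add_neg] using h1, by simpa [sub_eq_add_neg] using h2⟩
    · exact ⟨(Q : ℤ) * Q - Q + 1, by simp, by simpa using h1, by simpa using h2⟩
    · exact ⟨(Q : ℤ) * Q + Q + 1, by simp, by simpa using h1, by simpa using h2⟩

open Polynomial in
omit [Fact p.Prime] [CharP L p] hQ in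
theorem multiset_stable : (Finset.univ.val.map (dgv ((x ^ Q : Lˣ) : L) ((y ^ Q : Lˣ) : L))) =
    Finset.univ.val.map (dgv (x : L) y) := by
  obtain ⟨z, hz, e⟩ := hstab
  have hchar := charpoly_conj (Cfsg.Lib.Chev.diag_le_group certG2 (torus_mem x y)) hz
  rw [e, mat_torus, mat_torus, Matrix.charpoly_diagonal, Matrix.charpoly_diagonal] at hchar
  have h := congrArg Polynomial.roots hchar
  rwa [Finset.prod_eq_multiset_prod, Finset.prod_eq_multiset_prod,
    show (Finset.univ.val.map fun i => X - C (dgv ((x ^ Q : Lˣ) : L) ((y ^ Q : Lˣ) : L) i)) =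
      (Finset.univ.val.map (dgv ((x ^ Q : Lˣ) : L) ((y ^ Q : Lˣ) : L))).map (fun a => X - C a) by
        rw [Multiset.map_map]; rfl,
    show (Finset.univ.val.map fun i => X - C (dgv (x : L) y i)) =
      (Finset.univ.val.map (dgv (x : L) y)).map (fun a => X - C a) by rw [Multiset.map_map]; rfl,
    Polynomial.roots_multiset_prod_X_sub_C, Polynomial.roots_multiset_prod_X_sub_C] at h

/-- A torus element with a trivial root. -/
theorem irregular_case {r : ℕ} (hr : 6 ≤ r) (hr' : r < 12) (h1 : chrU x y r = 1) :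
    ∃ m ∈ [(Q : ℤ) - 1, (Q : ℤ) + 1], x ^ m = 1 ∧ y ^ m = 1 := by
  classical
  have hms := multiset_stable hstab
  -- the element generating both parameters
  obtain ⟨z, a, b, hxz, hyz, hz⟩ : ∃ (z : Lˣ) (a b : ℤ), x = z ^ a ∧ y = z ^ b ∧
      ((a = 0 ∧ b = 1) ∨ (a = 1 ∧ b = 1) ∨ (a = 1 ∧ b = 2) ∨ (a = 2 ∧ b = 3) ∨ (a = 1 ∧ b = 3) ∨ (a = 1 ∧ b = 0)) := by
    have hvals : tblG2.cartan 0 6 = -3 ∧ tblG2.cartan 1 6 = 2 ∧ tblG2.cartan 0 7 = 2 ∧ tblG2.cartan 1 7 = -1 ∧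
        tblG2.cartan 0 8 = -1 ∧ tblG2.cartan 1 8 = 1 ∧ tblG2.cartan 0 9 = 1 ∧ tblG2.cartan 1 9 = 0 ∧
        tblG2.cartan 0 10 = 3 ∧ tblG2.cartan 1 10 = -1 ∧ tblG2.cartan 0 11 = 0 ∧ tblG2.cartan 1 11 = 1 := by
      decide +kernel
    obtain ⟨c1, c2, c3, c4, c5, c6, c7, c8, c9, c10, c11, c12⟩ := hvals
    have h1' : tblG2.cartan 0 r • Additive.ofMul x + tblG2.cartan 1 r • Additive.ofMul y = 0 := h1
    interval_cases r
    · refine ⟨x⁻¹ * y, 2, 3, ?_, ?_, by norm_num⟩ <;> rw [c1, c2] at h1'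
      · show Additive.ofMul x = (2 : ℤ) • (-Additive.ofMul x + Additive.ofMul y)
        linear_combination (norm := module) (-1 : ℤ) • h1'
      · show Additive.ofMul y = (3 : ℤ) • (-Additive.ofMul x + Additive.ofMul y)
        linear_combination (norm := module) (-1 : ℤ) • h1'
    · refine ⟨x, 1, 2, (zpow_one x).symm, ?_, by norm_num⟩
      rw [c3, c4] at h1'
      show Additive.ofMul y = (2 : ℤ) • Additive.ofMul x
      linear_combination (norm := module) (-1 : ℤ) • h1'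
    · refine ⟨x, 1, 1, (zpow_one x).symm, ?_, by norm_num⟩
      rw [c5, c6] at h1'
      show Additive.ofMul y = (1 : ℤ) • Additive.ofMul x
      linear_combination (norm := module) (1 : ℤ) • h1'
    · refine ⟨y, 0, 1, ?_, (zpow_one y).symm, by norm_num⟩
      rw [c7, c8] at h1'
      show Additive.ofMul x = (0 : ℤ) • Additive.ofMul y
      linear_combination (norm := module) (1 : ℤ) • h1'
    · refine ⟨x, 1, 3, (zpow_one x).symm, ?_, by norm_num⟩
      rw [c9, c10] at h1'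
      show Additive.ofMul y = (3 : ℤ) • Additive.ofMul x
      linear_combination (norm := module) (-1 : ℤ) • h1'
    · refine ⟨x, 1, 0, (zpow_one x).symm, ?_, by norm_num⟩
      rw [c11, c12] at h1'
      show Additive.ofMul y = (0 : ℤ) • Additive.ofMul x
      linear_combination (norm := module) (1 : ℤ) • h1'
  -- it is enough to treat the generator
  suffices hgoal : ∃ m ∈ [(Q : ℤ) - 1, (Q : ℤ) + 1], z ^ m = 1 by
    obtain ⟨m, hm, hm1⟩ := hgoal
    exact ⟨m, hm, by rw [hxz, ← zpow_mul, mul_comm, zpow_mul, hm1, one_zpow],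
      by rw [hyz, ← zpow_mul, mul_comm, zpow_mul, hm1, one_zpow]⟩
  have hpm : z ^ Q = z ∨ z ^ Q = z⁻¹ → ∃ m ∈ [(Q : ℤ) - 1, (Q : ℤ) + 1], z ^ m = 1 := by
    rintro (h | h)
    · exact ⟨(Q : ℤ) - 1, by simp, by rw [zpow_sub, zpow_natCast, h, zpow_one, mul_inv_cancel]⟩
    · exact ⟨(Q : ℤ) + 1, by simp, by rw [zpow_add, zpow_natCast, h, zpow_one, inv_mul_cancel]⟩
  refine hpm ?_
  set e : Fin 7 → ℤ := fun i => a * wts 7 i + b * wts 6 i
  have hd : ∀ w : Lˣ, (dgv ((w ^ a : Lˣ) : L) ((w ^ b : Lˣ) : L)) = fun i => ((w ^ e i : Lˣ) : L) := fun w => by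
    funext i
    rw [dgv_eq, ← zpow_mul, ← zpow_mul, ← zpow_add]
  have hQz : ∀ c : ℤ, (z ^ c) ^ Q = (z ^ Q) ^ c := fun c => by
    rw [← zpow_natCast, ← zpow_mul, mul_comm, zpow_mul, zpow_natCast]
  rw [hxz, hyz, hQz, hQz, hd, hd] at hms
  rw [← Units.val_inj, ← Units.val_inj (b := z⁻¹)]
  have hcount := congrArg (Multiset.count (((z ^ Q : Lˣ)) : L)) hms
  simp only [Multiset.count_map] at hcount
  by_contra hne
  push Not at hne
  obtain ⟨hn1, hn2⟩ := hne
  -- the value of the power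
  have hmem : ∃ i, ((z ^ Q : Lˣ) : L) = ((z ^ e i : Lˣ) : L) := by
    have h1e : ∃ j : Fin 7, e j = 1 := by
      rcases hz with ⟨rfl, rfl⟩ | ⟨rfl, rfl⟩ | ⟨rfl, rfl⟩ | ⟨rfl, rfl⟩ | ⟨rfl, rfl⟩ | ⟨rfl, rfl⟩ <;> decide
    obtain ⟨j, hj⟩ := h1e
    have : ((z ^ Q : Lˣ) : L) ∈ Finset.univ.val.map fun i => (((z ^ Q) ^ e i : Lˣ) : L) :=
      Multiset.mem_map.2 ⟨j, by simp, by rw [hj, zpow_one]⟩
    rw [hms] at this
    obtain ⟨i, -, hi⟩ := Multiset.mem_map.1 this
    exact ⟨i, hi.symm⟩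
  obtain ⟨i, hi⟩ := hmem
  set w := z ^ Q with hw
  have hw1 : w ≠ 1 := fun h => by
    have hz1 : z = 1 := pow_Q_inj hQ (by rw [one_pow, ← hw, h])
    exact hn1 (by rw [h, hz1])
  -- short root: values among `1, z, z⁻¹`; long root: some values repeat
  have hlist : (∀ i, e i ∈ [(0 : ℤ), 1, -1]) ∨
      ((∀ i, e i ∈ [(0 : ℤ), 1, -1, 2, -2]) ∧ (Finset.univ.filter fun i => e i = 1).card = 2 ∧
        (Finset.univ.filter fun i => e i = 2).card = 1 ∧ (Finset.univ.filter fun i => e i = -2).card = 1) := by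
    rcases hz with ⟨rfl, rfl⟩ | ⟨rfl, rfl⟩ | ⟨rfl, rfl⟩ | ⟨rfl, rfl⟩ | ⟨rfl, rfl⟩ | ⟨rfl, rfl⟩ <;> decide
  have hi' : w = z ^ e i := Units.ext hi
  have hne1 : w ≠ z := fun h => hn1 (congrArg Units.val h)
  have hne2 : w ≠ z⁻¹ := fun h => hn2 (congrArg Units.val h)
  rcases hlist with hall | ⟨hall, hc1, hc2, hc3⟩
  · have := hall i
    simp only [List.mem_cons, List.not_mem_nil, or_false] at this
    rcases this with h | h | h <;> rw [h] at hi'
    · exact hw1 (by rw [hi', zpow_zero])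
    · exact hne1 (by rw [hi', zpow_one])
    · exact hne2 (by rw [hi', zpow_neg, zpow_one])
  · -- the power is the square or its inverse
    have h2 : w = z ^ (2 : ℤ) ∨ w = z ^ (-2 : ℤ) := by
      have := hall i
      simp only [List.mem_cons, List.not_mem_nil, or_false] at this
      rcases this with h | h | h | h | h <;> rw [h] at hi'
      · exact absurd (by rw [hi', zpow_zero]) hw1
      · exact absurd (by rw [hi', zpow_one]) hne1
      · exact absurd (by rw [hi', zpow_neg, zpow_one]) hne2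
      · exact Or.inl hi'
      · exact Or.inr hi'
    have hzz : z ^ (2 : ℤ) ≠ z ^ (-2 : ℤ) := fun h => by
      -- then the fourth power is trivial
      have h4 : z ^ (4 : ℕ) = 1 := by
        have := mul_inv_eq_one.2 h
        rwa [← zpow_neg, ← zpow_add, show ((2 : ℤ) + -(-2)) = ((4 : ℕ) : ℤ) by norm_num, zpow_natCast] at this
      have hz4 : ∀ k : ℕ, z ^ k = z ^ (k % 4) := fun k => by
        conv_lhs => rw [← Nat.mod_add_div k 4, pow_add, pow_mul, h4, one_pow, mul_one]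
      have h02 : z ^ Q = 1 ∨ z ^ Q = z ∨ z ^ Q = z⁻¹ ∨ (z ^ Q = z ^ 2 ∧ Q % 4 = 2) := by
        rw [hz4 Q]
        have : Q % 4 = 0 ∨ Q % 4 = 1 ∨ Q % 4 = 2 ∨ Q % 4 = 3 := by omega
        rcases this with e | e | e | e <;> rw [e]
        · exact Or.inl (pow_zero z)
        · exact Or.inr (Or.inl (pow_one z))
        · exact Or.inr (Or.inr (Or.inr ⟨rfl, rfl⟩))
        · exact Or.inr (Or.inr (Or.inl (eq_inv_of_mul_eq_one_left (by rw [← pow_succ]; exact h4))))
      rcases h02 with e | e | e | ⟨e, e'⟩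
      · exact hw1 e
      · exact hne1 e
      · exact hne2 e
      · refine hne1 ?_
        show z ^ Q = z
        have hz2 : z ^ 2 = 1 := pow_Q_inj hQ (by
          rw [one_pow, ← pow_mul, hz4, show 2 * Q % 4 = 0 by omega, pow_zero])
        exfalso
        exact hw1 ((show w = z ^ 2 from e).trans hz2)
    have hcard : ∀ i, e i = 1 → w ^ e i = w := fun i h => by rw [h, zpow_one]
    have hge : 2 ≤ (Finset.univ.val.filter fun i => (w : L) = ((w ^ e i : Lˣ) : L)).card := by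
      rw [← hc1, ← Finset.card_val, ← Finset.filter_val]
      refine Finset.card_le_card fun i hi => ?_
      simp only [Finset.mem_filter, Finset.mem_univ, true_and] at hi ⊢
      rw [hcard i hi]
    rw [hcount] at hge
    rw [← Finset.filter_val, Finset.card_val] at hge
    refine absurd hge (not_le.2 (Nat.lt_succ_of_le ?_))
    rcases h2 with h | h
    · rw [← hc2]
      refine Finset.card_le_card fun i hi => ?_
      simp only [Finset.mem_filter, Finset.mem_univ, true_and] at hi ⊢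
      have hi2 : w = z ^ e i := Units.ext hi
      have := hall i
      simp only [List.mem_cons, List.not_mem_nil, or_false] at this
      rcases this with k | k | k | k | k <;> rw [k] at hi2
      · exact absurd (by rw [hi2, zpow_zero]) hw1
      · exact absurd (by rw [hi2, zpow_one]) hne1
      · exact absurd (by rw [hi2, zpow_neg, zpow_one]) hne2
      · exact k
      · exact absurd (h.symm.trans hi2) hzz
    · rw [← hc3]
      refine Finset.card_le_card fun i hi => ?_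
      simp only [Finset.mem_filter, Finset.mem_univ, true_and] at hi ⊢
      have hi2 : w = z ^ e i := Units.ext hi
      have := hall i
      simp only [List.mem_cons, List.not_mem_nil, or_false] at this
      rcases this with k | k | k | k | k <;> rw [k] at hi2
      · exact absurd (by rw [hi2, zpow_zero]) hw1
      · exact absurd (by rw [hi2, zpow_one]) hne1
      · exact absurd (by rw [hi2, zpow_neg, zpow_one]) hne2
      · exact absurd (hi2.symm.trans h) hzz
      · exact k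

end Stable

section Main

variable {F : Type*} [Field F] [Fintype F]

/-- The element orders: a list of possibilities. -/
theorem order_cases (p : ℕ) [Fact p.Prime] [CharP F p] {g : GL chevG2.Idx F} (hg : g ∈ chevG2.group F) :
    ∃ n e : ℕ, orderOf g = n * e ∧ n.Coprime p ∧
      ((n = 1 ∧ ∀ k, 6 < p ^ k → e ∣ p ^ k) ∨
       (e = 1 ∧ ∃ m ∈ [(Fintype.card F : ℤ) - 1, (Fintype.card F : ℤ) + 1,
          (Fintype.card F : ℤ) * Fintype.card F - 1, (Fintype.card F : ℤ) * Fintype.card F + Fintype.card F + 1,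
          (Fintype.card F : ℤ) * Fintype.card F - Fintype.card F + 1], (n : ℤ) ∣ m) ∨
       (e ∣ p ∧ ∃ m ∈ [(Fintype.card F : ℤ) - 1, (Fintype.card F : ℤ) + 1], (n : ℤ) ∣ m) ∨
       (n = 3 ∧ ∀ k, 2 < p ^ k → e ∣ p ^ k)) := by
  classical
  obtain ⟨L, _, _, _, x, y, u, n, k, hu, hord, hcop, hn, hk, hstab⟩ := normal_form p hg
  obtain ⟨n₀, -, hcard⟩ := FiniteField.card F p
  refine ⟨n, p ^ k, hord, hcop, ?_⟩
  have hdvd : ∀ m : ℤ, x ^ m = 1 → y ^ m = 1 → (n : ℤ) ∣ m := fun m h1 h2 =>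
    Int.natCast_dvd.2 (hn ▸ order_dvd_int h1 h2)
  rw [← hk]
  set R := (List.range 12).filter fun r => decide (6 ≤ r ∧ chrU x y r = 1) with hR
  have hmemR : ∀ r, r ∈ R ↔ 6 ≤ r ∧ r < 12 ∧ chrU x y r = 1 := fun r => by
    simp [hR, and_comm, and_left_comm]
  have huR : u ∈ Subgroup.closure {g | ∃ r ∈ R, ∃ t : L, g = xg certG2 r t} := by
    refine (Subgroup.closure_le _).2 ?_ hu
    rintro _ ⟨r, h1, h2, h3, t, rfl⟩
    exact Subgroup.subset_closure ⟨r, (hmemR r).2 ⟨h1, h2, (chrT_eq_one x y r).1 h3⟩, t, rfl⟩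
  by_cases hn1 : n = 1
  · refine Or.inl ⟨hn1, fun j hj => orderOf_dvd_of_pow_eq_one ?_⟩
    refine pow_eq_one_of_lev (lev := fun i => (i : ℕ)) (S := [6, 7, 8, 9, 10, 11]) (by decide +kernel)
      (fun i => lt_of_lt_of_le (lt_of_le_of_lt (Nat.lt_succ_iff.1 i.2) hj) le_rfl) ?_
    refine Subgroup.closure_mono ?_ huR
    rintro _ ⟨r, hr, t, rfl⟩
    obtain ⟨h1, h2, -⟩ := (hmemR r).1 hr
    exact ⟨r, by interval_cases r <;> simp, t, rfl⟩
  by_cases hreg : R = []
  · refine Or.inr (Or.inl ⟨?_, ?_⟩)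
    · rw [orderOf_eq_one_iff]
      rw [hreg] at huR
      have he : {g : GL chevG2.Idx L | ∃ r ∈ ([] : List ℕ), ∃ t : L, g = xg certG2 r t} = ∅ := by ext; simp
      rwa [he, Subgroup.closure_empty, Subgroup.mem_bot] at huR
    · obtain ⟨m, hm, h1, h2⟩ := regular_case hcard hstab fun r h1 h2 h3 =>
        List.not_mem_nil (hreg ▸ (hmemR r).2 ⟨h1, h2, h3⟩)
      exact ⟨m, hm, hdvd m h1 h2⟩
  obtain ⟨r₀, hr₀⟩ := List.exists_mem_of_ne_nil _ hreg
  obtain ⟨a1, a2, a3⟩ := (hmemR r₀).1 hr₀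
  obtain ⟨m, hm, hm1, hm2⟩ := irregular_case hcard hstab a1 a2 a3
  by_cases hlong : (∀ r ∈ R, r ∈ [6, 10, 11]) ∧ n ∣ 3
  · refine Or.inr (Or.inr (Or.inr ⟨?_, fun j hj => orderOf_dvd_of_pow_eq_one ?_⟩))
    · exact ((Nat.dvd_prime Nat.prime_three).1 hlong.2).resolve_left hn1
    · refine pow_eq_one_of_lev (lev := ![0, 0, 1, 1, 1, 2, 2]) (S := [6, 10, 11]) (by decide +kernel)
        (fun i => lt_of_le_of_lt (by revert i; decide) hj) ?_
      refine Subgroup.closure_mono ?_ huR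
      rintro _ ⟨r, hr, t, rfl⟩
      exact ⟨r, hlong.1 r hr, t, rfl⟩
  refine Or.inr (Or.inr (Or.inl ⟨orderOf_dvd_of_pow_eq_one (pow_prime_of_comm ?_ huR), m, hm, hdvd m hm1 hm2⟩))
  intro r hr s hs
  by_contra hc
  push Not at hc
  obtain ⟨b1, b2, b3⟩ := (hmemR r).1 hr
  obtain ⟨d1, d2, d3⟩ := (hmemR s).1 hs
  rcases two_fixed b1 b2 d1 d2 hc.1 b3 d3 with h | ⟨-, h⟩ | ⟨h, hl, -⟩
  · exact hn1 (hn ▸ h)
  · exact hc.2 h
  · refine hlong ⟨fun t ht => ?_, hn ▸ h⟩
    by_contra hnl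
    obtain ⟨f1, f2, f3⟩ := (hmemR t).1 ht
    rcases two_fixed f1 f2 b1 b2 (fun e => hnl (e ▸ hl)) f3 b3 with h' | ⟨h', -⟩ | ⟨-, h', -⟩
    · exact hn1 (hn ▸ h')
    · refine hn1 ?_
      have := Nat.dvd_gcd (hn ▸ h') (hn ▸ h)
      simpa using this
    · exact hnl h'

end Main

end Cfsg.Lib.Chev.G2Seven
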